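import Groth.Agent.AzLoc.Std
import Groth.Agent.HermDiag.Basic
import Mathlib.Data.Matrix.Block
import Mathlib.LinearAlgebra.Matrix.SchurComplement

/-!
Normal forms for hermitian and skew hermitian matrices over a residually trivial or split involution.
-/

set_option autoImplicit false
set_option backward.isDefEq.respectTransparency false

open AzInv (lamTr)

universe u x

namespace Groth.Agent.AzLoc

variable {T : Type u} [CommRing T] {W : Type x} [CommRing W] [Algebra T W] {lam : W ≃ₐ[T] W}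
variable {ι : Type*} [Fintype ι] [DecidableEq ι]

variable (lam) in
/-- The involution is the standard transpose in some presentation. -/
def Std1 (ι : Type*) [Fintype ι] [DecidableEq ι] {B : Type*} [Ring B] [Algebra W B] (τ : B → B) : Prop :=
  ∃ θ : B ≃ₐ[W] Matrix ι ι W, ∀ b, θ (τ b) = lamTr lam (θ b)

section

variable {B : Type*} [Ring B] [Algebra W B] {τ : B → B}

theorem Std1.iso {B' : Type*} [Ring B'] [Algebra W B'] {τ' : B' → B'} (h : Std1 lam ι τ)
    (h' : Std1 lam ι τ') : Iso' (W := W) τ τ' := by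
  obtain ⟨θ, hθ⟩ := h
  obtain ⟨θ', hθ'⟩ := h'
  exact iso_of_same (lam := lam) isUnit_one (θ := θ) (by simp [hθ]) (θ' := θ') (by simp [hθ'])

theorem Std1.std (h : Std1 lam ι τ) : Std lam 1 ι τ := by
  obtain ⟨θ, hθ⟩ := h
  exact ⟨θ, 1, isUnit_one, by rw [lamTr_one, one_smul], by simp [hθ]⟩

theorem std1_of_congr {θ : B ≃ₐ[W] Matrix ι ι W} {u g : Matrix ι ι W}
    (hτ : ∀ b, θ (τ b) * u = u * lamTr lam (θ b)) (hg : IsUnit g) {c : W} (hc : IsUnit c)
    (he : c • u = g * lamTr lam g) : Std1 lam ι τ := by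
  obtain ⟨θ', hθ'⟩ := std_congr hτ hg hc (u' := 1) (by rw [mul_one, he])
  exact ⟨θ', fun b => by simpa using hθ' b⟩

/-- In the split case every involution is standard. -/
theorem std1_of_spl (hS : Spl lam) {s : W} (hs1 : lam s * s = 1) (h : Std lam s ι τ) : Std1 lam ι τ := by
  obtain ⟨θ, u, hu, hs, hτ⟩ := h
  obtain ⟨e, he, hle⟩ := hS
  obtain ⟨u, rfl⟩ := hu
  refine std1_of_congr hτ (g := e • (u : Matrix ι ι W) + (1 - e) • 1) ?_ (c := e + (1 - e) * s) ?_ ?_
  · refine isUnit_iff_exists_and_exists.2 ⟨⟨e • (↑u⁻¹ : Matrix ι ι W) + (1 - e) • 1, ?_⟩,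
      ⟨e • (↑u⁻¹ : Matrix ι ι W) + (1 - e) • 1, ?_⟩⟩ <;>
    · simp only [add_mul, mul_add, smul_add, smul_mul_assoc, mul_smul_comm, smul_smul, mul_one, one_mul,
        Units.mul_inv, Units.inv_mul, he, show e * (1 - e) = 0 by rw [mul_sub, mul_one, he, sub_self],
        show (1 - e) * e = 0 by rw [sub_mul, one_mul, he, sub_self], zero_smul, add_zero, zero_add,
        show (1 - e) * (1 - e) = 1 - e by linear_combination he]
      rw [← add_smul, add_sub_cancel, one_smul]
  · refine IsUnit.of_mul_eq_one (b := e + (1 - e) * lam s) ?_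
    linear_combination (1 - lam s - s + lam s * s) * he + (1 - e) * hs1
  · rw [lamTr_add, lamTr_smul, lamTr_smul, hs, lamTr_one, map_sub, map_one, hle, sub_sub_cancel]
    simp only [add_mul, mul_add, smul_add, smul_mul_assoc, mul_smul_comm, smul_smul, mul_one, one_mul]
    rw [show (1 - e) * s * e = 0 by linear_combination -s * he, zero_smul, zero_add,
      show e * e = e from he, show (1 - e) * s * (1 - e) = (1 - e) * s by linear_combination s * he,
      show e * (1 - e) = 0 by linear_combination -he, zero_smul, add_zero, add_smul, add_comm]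

end

section Ram

variable [IsLocalRing W] (hR : Ram lam)

include hR in
theorem residue_lam (w : W) : IsLocalRing.residue W (lam w) = IsLocalRing.residue W w :=
  Ideal.Quotient.eq.2 (hR ⟨_, IsLocalRing.maximalIdeal.isMaximal W⟩ w)

include hR in
theorem residue_lamTr (u : Matrix ι ι W) :
    (lamTr lam u).map (IsLocalRing.residue W) = (u.map (IsLocalRing.residue W)).transpose := by
  ext i j; simp [residue_lam hR]

variable {B : Type*} [Ring B] [Algebra W B] {τ : B → B}

/-- Normalisation in odd size. -/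
theorem std_one_of_odd (hI : IsInv lam) {s : W} {n : ℕ} (hn : Odd n) (h : Std lam s (Fin n) τ) : Std lam 1 (Fin n) τ := by
  obtain ⟨θ, u, hu, hs, hτ⟩ := h
  obtain ⟨m, hm⟩ := hn
  have hdet : lam u.det = s ^ n * u.det := by
    rw [← det_lamTr, hs, Matrix.det_smul, Fintype.card_fin]
  have hs1 : lam s * s = 1 := by
    haveI : Nonempty (Fin n) := ⟨⟨0, by omega⟩⟩
    apply smul_left_cancel_of_isUnit hu
    have := congrArg (lamTr lam) hs
    rw [lamTr_lamTr hI, lamTr_smul, hs, smul_smul] at this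
    rw [one_smul, ← this]
  have hD : IsUnit (u.det * s ^ m) :=
    ((Matrix.isUnit_iff_isUnit_det u).1 hu).mul ((IsUnit.of_mul_eq_one_right _ hs1).pow m)
  obtain ⟨D, hD⟩ := hD
  have hlD : lam (D : W) = s * D := by
    have hp : lam s ^ m * s ^ m = 1 := by rw [← mul_pow, hs1, one_pow]
    rw [hD, map_mul, map_pow, hdet]
    have hpn : s ^ n = s ^ m * s ^ m * s := by rw [hm]; ring
    rw [hpn]
    linear_combination (s ^ m * s * u.det) * hp
  refine Std.scale ⟨θ, u, hu, hs, hτ⟩ (c := (↑D⁻¹ : W)) D⁻¹.isUnit ?_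
  have h1 : lam (↑D⁻¹ : W) * lam (D : W) = 1 := by rw [← map_mul, Units.inv_mul, map_one]
  rw [hlD] at h1
  calc lam (↑D⁻¹ : W) * s = lam (↑D⁻¹ : W) * (s * D) * ↑D⁻¹ := by
        rw [mul_assoc, mul_assoc s, Units.mul_inv, mul_one]
    _ = 1 * ↑D⁻¹ := by rw [h1]

include hR in
/-- The sign when two is invertible. -/
theorem std_one_or_neg {s : W} {ι : Type*} [Fintype ι] [DecidableEq ι] (h2 : IsUnit (2 : W))
    (hs1 : lam s * s = 1) (h : Std lam s ι τ) : Std lam 1 ι τ ∨ Std lam (-1) ι τ := by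
  have hmem : (s - 1) * (s + 1) ∈ IsLocalRing.maximalIdeal W := by
    rw [← IsLocalRing.residue_eq_zero_iff]
    have h1 := congrArg (IsLocalRing.residue W) hs1
    rw [map_mul, residue_lam hR, map_one] at h1
    rw [map_mul, map_sub, map_add, map_one]
    linear_combination h1
  rcases (IsLocalRing.maximalIdeal.isMaximal W).isPrime.mem_or_mem hmem with hm | hm
  · refine Or.inl (h.scale (c := 1 + s) ?_ ?_)
    · by_contra hu
      have := sub_mem ((IsLocalRing.mem_maximalIdeal _).2 hu) hm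
      rw [show 1 + s - (s - 1) = 2 by ring] at this
      exact (IsLocalRing.mem_maximalIdeal _).1 this h2
    · rw [map_add, map_one, one_mul]; linear_combination hs1
  · refine Or.inr (h.scale (c := 1 - s) ?_ ?_)
    · by_contra hu
      have := add_mem ((IsLocalRing.mem_maximalIdeal _).2 hu) hm
      rw [show 1 - s + (s + 1) = 2 by ring] at this
      exact (IsLocalRing.mem_maximalIdeal _).1 this h2
    · rw [map_sub, map_one]; linear_combination -hs1

include hR in
/-- The two signs exclude each other. -/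
theorem not_std_one_neg (hI : IsInv lam) {n : ℕ} (hn : 0 < n) (h2 : IsUnit (2 : W))
    (h : Std lam 1 (Fin n) τ) (h' : Std lam (-1) (Fin n) τ) : False := by
  obtain ⟨c, hc, he⟩ := h.sign_congr hI hn h'
  have h0 := congrArg (IsLocalRing.residue W) he
  rw [mul_one, map_mul, residue_lam hR, map_neg, map_one, neg_one_mul] at h0
  refine (IsUnit.map (IsLocalRing.residue W) (h2.mul hc)).ne_zero ?_
  rw [two_mul, map_add]
  linear_combination h0

include hR in
/-- An orthogonal involution is standard. -/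
theorem std1_of_one (hI : IsInv lam) (hsq : ∀ t : Tˣ, ∃ y : T, y * y = t) {n : ℕ}
    (hcond : IsUnit (2 : W) ∨ Odd n) (h : Std lam 1 (Fin n) τ) : Std1 lam (Fin n) τ := by
  classical
  obtain ⟨θ, u, hu, hs, hτ⟩ := h
  rw [one_smul] at hs
  rcases Nat.eq_zero_or_pos n with rfl | hn
  · exact ⟨θ, fun b => Subsingleton.elim _ _⟩
  have hh : HermDiag.IsHerm lam.toRingEquiv u 1 := fun i j => by
    rw [one_mul]; exact congrFun (congrFun hs i) j
  have hJ : ∀ b : W, lam.toRingEquiv b = b → ¬IsUnit b → b ∈ Ring.jacobson W := fun b _ hb => by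
    rw [← Ideal.jacobson_bot, IsLocalRing.jacobson_eq_maximalIdeal ⊥ bot_ne_top]
    exact (IsLocalRing.mem_maximalIdeal _).2 hb
  have hres : ∀ {b : W}, b ∈ Ring.jacobson W → IsLocalRing.residue W b = 0 := fun hb => by
    rw [← Ideal.jacobson_bot, IsLocalRing.jacobson_eq_maximalIdeal ⊥ bot_ne_top] at hb
    exact (IsLocalRing.residue_eq_zero_iff _).2 hb
  have hna : ¬ HermDiag.Alt lam.toRingEquiv u := by
    intro hA
    have hd : ∀ i, IsLocalRing.residue W (u i i) = 0 := fun i => by
      have := hres (hA (Pi.single i 1))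
      simpa [HermDiag.sform_single] using this
    have ho : ∀ i j, IsLocalRing.residue W (u i j) + IsLocalRing.residue W (u j i) = 0 := fun i j => by
      have := hres (hA (Pi.single i 1 + Pi.single j 1))
      rw [HermDiag.sform_add_left, HermDiag.sform_add_right, HermDiag.sform_add_right,
        HermDiag.sform_single, HermDiag.sform_single, HermDiag.sform_single, HermDiag.sform_single] at this
      simpa [hd] using this
    have hdet := ((Matrix.isUnit_iff_isUnit_det u).1 hu).map (IsLocalRing.residue W)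
    rw [RingHom.map_det] at hdet
    refine hdet.ne_zero ?_
    rcases hcond with h2 | hodd
    · have hz : u.map (IsLocalRing.residue W) = 0 := by
        ext i j
        have h1 := ho i j
        rw [show u j i = lamTr lam u j i by rw [hs], AzInv.lamTr_apply, residue_lam hR, ← two_mul] at h1
        exact (mul_eq_zero.1 h1).resolve_left
          (by simpa [map_ofNat] using (h2.map (IsLocalRing.residue W)).ne_zero)
      rw [RingHom.mapMatrix_apply, hz]
      haveI : Nonempty (Fin n) := ⟨⟨0, hn⟩⟩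
      exact Matrix.det_zero
    · exact HermDiag.det_alternating_odd hodd _ hd ho
  obtain ⟨v, hv, d, hd⟩ := HermDiag.exists_diagonal lam.toRingEquiv hI.invol hJ (Or.inl rfl)
    (not_subsingleton W) u hh hu hna
  have hv' : IsUnit (lamTr lam v) := isUnit_lamTr hv
  have hd' : lamTr lam v * u * v = Matrix.diagonal d := hd
  have hdu : ∀ i, IsUnit (d i) := fun i => by
    have h1 : IsUnit (Matrix.diagonal d) := hd' ▸ (hv'.mul hu).mul hv
    rw [Matrix.isUnit_iff_isUnit_det, Matrix.det_diagonal] at h1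
    exact (IsUnit.prod_univ_iff.1 h1) i
  have hfix : ∀ i, ∃ y : T, IsUnit y ∧ algebraMap T W (y * y) = d i := fun i => by
    have h1 := hh.congr lam.toRingEquiv hI.invol v i i
    rw [hd, one_mul, Matrix.diagonal_apply_eq] at h1
    obtain ⟨t, ht⟩ := hI.fixed _ h1
    haveI := hI.isIntegral
    have htu : IsUnit t := by
      by_contra hn'
      obtain ⟨m, hm, htm⟩ := exists_max_ideal_of_mem_nonunits hn'
      haveI := hm
      haveI : FaithfulSMul T W := (faithfulSMul_iff_algebraMap_injective T W).2 hI.inj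
      obtain ⟨Q, hQ, hQm⟩ := Ideal.exists_maximal_ideal_liesOver_of_isIntegral (S := W) m
      exact hQ.ne_top (Ideal.eq_top_of_isUnit_mem _ (hQm.over ▸ htm : t ∈ Q.under T) (ht ▸ hdu i))
    obtain ⟨y, hy⟩ := hsq htu.unit
    exact ⟨y, isUnit_of_mul_isUnit_left (x := y) (y := y) (by rw [hy]; exact htu), by rw [hy]; exact ht⟩
  choose y hyu hy using hfix
  obtain ⟨vi, rfl⟩ := hv
  obtain ⟨wi, hwi⟩ := hv'
  refine std1_of_congr hτ (g := lamTr lam (↑vi⁻¹ : Matrix (Fin n) (Fin n) W) *
    Matrix.diagonal (fun i => algebraMap T W (y i))) ?_ isUnit_one ?_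
  · refine (isUnit_lamTr vi⁻¹.isUnit).mul ?_
    rw [Matrix.isUnit_iff_isUnit_det, Matrix.det_diagonal, IsUnit.prod_univ_iff]
    exact fun i => (hyu i).map _
  · rw [one_smul, lamTr_mul, lamTr_lamTr hI]
    have hdiag : lamTr lam (Matrix.diagonal fun i => algebraMap T W (y i)) =
        Matrix.diagonal fun i => algebraMap T W (y i) := by
      ext i j
      rcases eq_or_ne i j with rfl | hij
      · simp
      · simp [hij, Ne.symm hij]
    rw [hdiag, mul_assoc, ← mul_assoc (Matrix.diagonal _) (Matrix.diagonal _),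
      Matrix.diagonal_mul_diagonal]
    simp only [← map_mul, hy]
    rw [← hd', mul_assoc (lamTr lam (vi : Matrix (Fin n) (Fin n) W) * u), Units.mul_inv, mul_one,
      ← mul_assoc, ← lamTr_mul, Units.mul_inv, lamTr_one, one_mul]

end Ram

section Skew

variable (lam) in
/-- Congruence of matrices. -/
def Cong (u u' : Matrix ι ι W) : Prop := ∃ g, IsUnit g ∧ u' = g * u * lamTr lam g

theorem Cong.trans {u u' u'' : Matrix ι ι W} (h : Cong lam u u') (h' : Cong lam u' u'') : Cong lam u u'' := by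
  obtain ⟨g, hg, rfl⟩ := h
  obtain ⟨g', hg', rfl⟩ := h'
  exact ⟨g' * g, hg'.mul hg, by rw [lamTr_mul]; simp [mul_assoc]⟩

theorem Cong.symm (hI : IsInv lam) {u u' : Matrix ι ι W} (h : Cong lam u u') : Cong lam u' u := by
  obtain ⟨g, ⟨g, rfl⟩, rfl⟩ := h
  refine ⟨(↑g⁻¹ : Matrix ι ι W), g⁻¹.isUnit, ?_⟩
  rw [mul_assoc _ _ (lamTr lam (↑g⁻¹ : Matrix ι ι W)), mul_assoc _ (lamTr lam (g : Matrix ι ι W)),
    ← lamTr_mul, Units.inv_mul, lamTr_one, mul_one, ← mul_assoc, Units.inv_mul, one_mul]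

theorem Cong.skew (hI : IsInv lam) {u u' : Matrix ι ι W} (h : Cong lam u u') (hu : lamTr lam u = -u) :
    lamTr lam u' = -u' := by
  obtain ⟨g, -, rfl⟩ := h
  rw [lamTr_mul, lamTr_mul, lamTr_lamTr hI, hu]
  simp [mul_assoc]

theorem Cong.isUnit {u u' : Matrix ι ι W} (h : Cong lam u u') (hu : IsUnit u) : IsUnit u' := by
  obtain ⟨g, hg, rfl⟩ := h
  exact (hg.mul hu).mul (isUnit_lamTr hg)

variable (W) in
/-- The standard alternating matrix of size two. -/
def J2 : Matrix (Fin 2) (Fin 2) W := Matrix.of ![![0, 1], ![-1, 0]]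

theorem cong_entries {a b c d : W} (g : Matrix (Fin 2) (Fin 2) W) :
    g * Matrix.of ![![a, b], ![c, d]] * lamTr lam g = Matrix.of fun i j =>
      g i 0 * a * lam (g j 0) + g i 1 * c * lam (g j 0) + g i 0 * b * lam (g j 1) + g i 1 * d * lam (g j 1) := by
  ext i j
  simp [Matrix.mul_apply, Fin.sum_univ_two]
  ring

variable [IsLocalRing W] [HenselianLocalRing T] (hR : Ram lam) (hI : IsInv lam) (h2 : IsUnit (2 : W))

omit [HenselianLocalRing T] in
include hR h2 in
theorem mem_of_skew {d : W} (hd : lam d = -d) : d ∈ IsLocalRing.maximalIdeal W := by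
  rw [← IsLocalRing.residue_eq_zero_iff]
  have h := residue_lam hR d
  rw [hd, map_neg, neg_eq_iff_add_eq_zero, ← two_mul] at h
  exact (IsUnit.mul_right_eq_zero (by simpa [map_ofNat] using h2.map (IsLocalRing.residue W))).1 h

include hR hI h2 in
/-- Skew hermitian two by two matrices with unit off diagonal entry. -/
theorem cong_J2 {u : Matrix (Fin 2) (Fin 2) W} (hu : lamTr lam u = -u) (h01 : IsUnit (u 0 1)) :
    Cong lam u (J2 W) := by
  obtain ⟨x, hx⟩ := h01
  have hent : ∀ i j, lam (u j i) = -u i j := fun i j => congrFun (congrFun hu i) j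
  have h00 := hent 0 0
  have h11 := hent 1 1
  have h10 : u 1 0 = -lam (x : W) := by rw [hx, hent 1 0, neg_neg]
  set d : W := u 0 0
  set d' : W := lam (↑x⁻¹ : W) * u 1 1 * ↑x⁻¹
  have hd' : lam d' = -d' := by
    simp only [d', map_mul, hI.invol, h11]; ring
  have step1 : Cong lam u (Matrix.of ![![d, 1], ![-1, d']]) := by
    refine ⟨Matrix.diagonal ![1, lam (↑x⁻¹ : W)], ?_, ?_⟩
    · rw [Matrix.isUnit_iff_isUnit_det, Matrix.det_diagonal, Fin.prod_univ_two]
      simpa using x⁻¹.isUnit.map lam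
    · have h1 : lam (↑x⁻¹ : W) * lam (x : W) = 1 := by rw [← map_mul, Units.inv_mul, map_one]
      rw [Matrix.eta_fin_two u, cong_entries]
      have h1' : lam (x : W) * lam (↑x⁻¹ : W) = 1 := by rw [mul_comm, h1]
      ext i j
      fin_cases i <;> fin_cases j <;> simp [d, d', hI.invol, ← hx, h10, h1, h1', mul_comm, mul_assoc, mul_left_comm]
  -- the root making the first vector isotropic
  obtain ⟨P, hP⟩ := hI.fixed (d * d') (by rw [map_mul, h00, hd']; ring)
  haveI := hI.isIntegral
  haveI : FaithfulSMul T W := (faithfulSMul_iff_algebraMap_injective T W).2 hI.inj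
  have hnu : ∀ {t : T}, algebraMap T W t ∈ IsLocalRing.maximalIdeal W → t ∈ IsLocalRing.maximalIdeal T :=
    fun ht => (IsLocalRing.mem_maximalIdeal _).2 fun hu => (IsLocalRing.mem_maximalIdeal _).1 ht (hu.map _)
  have hunit : ∀ {t : T}, IsUnit (algebraMap T W t) → IsUnit t := fun {t} ht => by
    by_contra hn
    obtain ⟨m, hm, htm⟩ := exists_max_ideal_of_mem_nonunits hn
    haveI := hm
    obtain ⟨Q, hQ, hQm⟩ := Ideal.exists_maximal_ideal_liesOver_of_isIntegral (S := W) m
    exact hQ.ne_top (Ideal.eq_top_of_isUnit_mem _ (hQm.over ▸ htm : t ∈ Q.under T) ht)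
  have h2T : IsUnit (2 : T) := hunit (by rwa [map_ofNat])
  have hPm : P ∈ IsLocalRing.maximalIdeal T := hnu (by rw [hP]; exact Ideal.mul_mem_right _ _ (mem_of_skew hR h2 h00))
  obtain ⟨r, hr, hr2⟩ := HenselianLocalRing.is_henselian
    (Polynomial.X ^ 2 - Polynomial.C 2 * Polynomial.X - Polynomial.C P : Polynomial T)
    (by
      rw [sub_sub]
      refine Polynomial.monic_X_pow_sub (lt_of_le_of_lt (Polynomial.degree_add_le _ _) (max_lt ?_ ?_))
      · exact lt_of_le_of_lt (Polynomial.degree_C_mul_X_le _) (by norm_num)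
      · exact lt_of_le_of_lt Polynomial.degree_C_le (by norm_num))
    2 (by simpa [pow_two] using hPm)
    (by
      simp only [Polynomial.derivative_sub, Polynomial.derivative_pow, Polynomial.derivative_C_mul,
        Polynomial.derivative_X, Polynomial.derivative_C, Polynomial.eval_sub, Polynomial.eval_mul,
        Polynomial.eval_pow, Polynomial.eval_X, Polynomial.eval_C, Polynomial.eval_zero, sub_zero]
      norm_num
      exact h2T)
  have hru : IsUnit r := by
    by_contra hn
    have h := sub_mem ((IsLocalRing.mem_maximalIdeal _).2 hn) hr2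
    rw [sub_sub_cancel] at h
    exact (IsLocalRing.mem_maximalIdeal _).1 h h2T
  obtain ⟨s, hs⟩ := hru.exists_right_inv
  have hroot : r * r - 2 * r - P = 0 := by simpa [Polynomial.IsRoot, pow_two] using hr
  have hq : 1 - 2 * s - P * (s * s) = 0 := by linear_combination (-2 * s - P * 0) * 0 + (s * s) * hroot + (-(r * s + 1) + 2 * s) * hs
  set S : W := algebraMap T W s
  set a : W := d * S
  have hqW : 1 - 2 * S - d * d' * (S * S) = 0 := by
    have := congrArg (algebraMap T W) hq
    simpa [map_ofNat, hP, S] using this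
  have hla : lam a = -a := by simp [a, S, h00]
  obtain ⟨yu, hy⟩ : IsUnit (1 + a * d') := by
    by_contra hn
    have hh := sub_mem ((IsLocalRing.mem_maximalIdeal _).2 hn)
      (Ideal.mul_mem_right (S * d') _ (mem_of_skew hR h2 h00))
    rw [show 1 + a * d' - d * (S * d') = 1 by simp only [a]; ring] at hh
    exact (IsLocalRing.maximalIdeal.isMaximal W).ne_top ((Ideal.eq_top_iff_one _).2 hh)
  have step2 : Cong lam (Matrix.of ![![d, 1], ![-1, d']]) (Matrix.of ![![0, (yu : W)], ![-lam (yu : W), d']]) := by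
    refine ⟨Matrix.of ![![1, a], ![0, 1]], ?_, ?_⟩
    · rw [Matrix.isUnit_iff_isUnit_det, Matrix.det_fin_two]; simp
    · rw [cong_entries, hy]
      ext i j
      fin_cases i <;> fin_cases j
      · simp [hla]; simp only [a]; linear_combination (-d) * hqW
      · simp
      · simp [hla, hd']; ring
      · simp
  set d'' : W := lam (↑yu⁻¹ : W) * d' * ↑yu⁻¹
  have step3 : Cong lam (Matrix.of ![![0, (yu : W)], ![-lam (yu : W), d']])
      (Matrix.of ![![0, 1], ![-1, d'']]) := by
    refine ⟨Matrix.diagonal ![1, lam (↑yu⁻¹ : W)], ?_, ?_⟩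
    · rw [Matrix.isUnit_iff_isUnit_det, Matrix.det_diagonal, Fin.prod_univ_two]
      simpa using yu⁻¹.isUnit.map lam
    · have h1 : lam (↑yu⁻¹ : W) * lam (yu : W) = 1 := by rw [← map_mul, Units.inv_mul, map_one]
      rw [cong_entries]
      have h1' : lam (yu : W) * lam (↑yu⁻¹ : W) = 1 := by rw [mul_comm, h1]
      ext i j
      fin_cases i <;> fin_cases j <;> simp [d'', hI.invol, h1, h1', mul_comm, mul_assoc]
  obtain ⟨half, hhalf⟩ := (h2T.map (algebraMap T W)).exists_left_inv
  rw [map_ofNat] at hhalf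
  have hlh : lam half = half := by
    have h' := congrArg lam hhalf
    rw [map_mul, map_ofNat, map_one] at h'
    exact (h2.mul_left_inj).1 (h'.trans hhalf.symm)
  have hd'' : lam d'' = -d'' := by simp only [d'', map_mul, hI.invol, hd']; ring
  have step4 : Cong lam (Matrix.of ![![0, 1], ![-1, d'']]) (J2 W) := by
    refine ⟨Matrix.of ![![1, 0], ![-(d'' * half), 1]], ?_, ?_⟩
    · rw [Matrix.isUnit_iff_isUnit_det, Matrix.det_fin_two]; simp
    · rw [cong_entries]
      ext i j
      fin_cases i <;> fin_cases j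
      · simp [J2]
      · simp [J2]
      · simp [J2]
      · simp [J2, hlh, hd'']; linear_combination d'' * hhalf
  exact ((step1.trans step2).trans step3).trans step4

theorem Cong.map {κ : Type*} [Fintype κ] [DecidableEq κ] (r : Matrix ι ι W ≃ₐ[W] Matrix κ κ W)
    (hr : ∀ M, lamTr lam (r M) = r (lamTr lam M)) {u u' : Matrix ι ι W} (h : Cong lam u u') :
    Cong lam (r u) (r u') := by
  obtain ⟨g, hg, rfl⟩ := h
  exact ⟨r g, hg.map r, by rw [hr, map_mul, map_mul]⟩

theorem Cong.submatrix (u : Matrix ι ι W) (π : Equiv.Perm ι) : Cong lam u (u.submatrix π π) := by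
  have hg : lamTr lam ((1 : Matrix ι ι W).submatrix π id) = (1 : Matrix ι ι W).submatrix id π := by
    ext i j
    simp [Matrix.one_apply, apply_ite lam, eq_comm]
  refine ⟨(1 : Matrix ι ι W).submatrix π id, ?_, ?_⟩
  · rw [Matrix.isUnit_iff_isUnit_det, Matrix.det_permute, Matrix.det_one, mul_one]
    exact Equiv.Perm.sign π |>.isUnit.map (Int.castRingHom W)
  · rw [hg, show (1 : Matrix ι ι W).submatrix π id = (1 : Matrix ι ι W).submatrix π (Equiv.refl ι) from rfl,
      Matrix.one_submatrix_mul,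
      show (1 : Matrix ι ι W).submatrix id π = (1 : Matrix ι ι W).submatrix (Equiv.refl ι) π from rfl,
      Matrix.mul_submatrix_one]
    rfl

omit [IsLocalRing W] [HenselianLocalRing T] [Fintype ι] [DecidableEq ι] in
theorem lamTr_fromBlocks {κ : Type*} (A : Matrix ι ι W) (B : Matrix ι κ W) (C : Matrix κ ι W) (D : Matrix κ κ W) :
    lamTr lam (Matrix.fromBlocks A B C D) =
      Matrix.fromBlocks (lamTr lam A) (C.map lam).transpose (B.map lam).transpose (lamTr lam D) := by
  rw [lamTr, Matrix.fromBlocks_map, Matrix.fromBlocks_transpose]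
  rfl

include hR hI h2 in
theorem exists_cong_block {k : ℕ} (u : Matrix (Fin 2 ⊕ Fin k) (Fin 2 ⊕ Fin k) W) (hu : IsUnit u)
    (hs : lamTr lam u = -u) : ∃ F : Matrix (Fin k) (Fin k) W, IsUnit F ∧ lamTr lam F = -F ∧
      Cong lam u (Matrix.fromBlocks (J2 W) 0 0 F) := by
  classical
  obtain ⟨j, hj⟩ : ∃ j, IsUnit (u (Sum.inl 0) j) := by
    by_contra h
    push Not at h
    have h0 : IsLocalRing.residue W u.det = 0 := by
      rw [RingHom.map_det]
      exact Matrix.det_eq_zero_of_row_eq_zero (Sum.inl 0) fun j =>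
        (IsLocalRing.residue_eq_zero_iff _).2 ((IsLocalRing.mem_maximalIdeal _).2 (h j))
    exact (((Matrix.isUnit_iff_isUnit_det u).1 hu).map (IsLocalRing.residue W)).ne_zero h0
  have hj0 : j ≠ Sum.inl 0 := fun h => by
    have h1 := congrFun (congrFun hs (Sum.inl 0)) (Sum.inl 0)
    exact (IsLocalRing.mem_maximalIdeal _).1 (mem_of_skew hR h2 h1) (h ▸ hj)
  let π : Equiv.Perm (Fin 2 ⊕ Fin k) := Equiv.swap (Sum.inl 1) j
  set u₁ := u.submatrix π π
  have c₁ : Cong lam u u₁ := Cong.submatrix u π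
  have hs₁ := c₁.skew hI hs
  have h01 : IsUnit (u₁.toBlocks₁₁ 0 1) := by
    show IsUnit (u (π (Sum.inl 0)) (π (Sum.inl 1)))
    rwa [Equiv.swap_apply_left, Equiv.swap_apply_of_ne_of_ne (by simp) (Ne.symm hj0)]
  have hD : lamTr lam u₁.toBlocks₁₁ = -u₁.toBlocks₁₁ := by
    ext a b
    exact congrFun (congrFun hs₁ (Sum.inl a)) (Sum.inl b)
  obtain ⟨g2, hg2, hJ⟩ := cong_J2 hR hI h2 hD h01
  set G : Matrix (Fin 2 ⊕ Fin k) (Fin 2 ⊕ Fin k) W := Matrix.fromBlocks g2 0 0 1
  have hG : IsUnit G := by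
    rw [Matrix.isUnit_iff_isUnit_det, Matrix.det_fromBlocks_zero₂₁, Matrix.det_one, mul_one]
    exact (Matrix.isUnit_iff_isUnit_det _).1 hg2
  set u₂ := G * u₁ * lamTr lam G
  have c₂ : Cong lam u₁ u₂ := ⟨G, hG, rfl⟩
  have h11 : u₂.toBlocks₁₁ = J2 W := by
    simp only [u₂, G]
    rw [← Matrix.fromBlocks_toBlocks u₁, lamTr_fromBlocks, Matrix.fromBlocks_multiply,
      Matrix.fromBlocks_multiply, Matrix.toBlocks_fromBlocks₁₁]
    simp [hJ]
  set X : Matrix (Fin k) (Fin 2) W := u₂.toBlocks₂₁ * J2 W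
  set E : Matrix (Fin 2 ⊕ Fin k) (Fin 2 ⊕ Fin k) W := Matrix.fromBlocks 1 0 X 1
  have hE : IsUnit E := by
    rw [Matrix.isUnit_iff_isUnit_det, Matrix.det_fromBlocks_zero₁₂, Matrix.det_one, Matrix.det_one, mul_one]
    exact isUnit_one
  set u₃ := E * u₂ * lamTr lam E
  have c₃ : Cong lam u₂ u₃ := ⟨E, hE, rfl⟩
  have hs₃ := c₃.skew hI (c₂.skew hI hs₁)
  have hJJ : J2 W * J2 W = -1 := by
    ext a b
    fin_cases a <;> fin_cases b <;> simp [J2, Matrix.mul_apply, Fin.sum_univ_two]
  have hu₃ : u₃.toBlocks₂₁ = 0 ∧ u₃.toBlocks₁₁ = J2 W := by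
    simp only [u₃, E]
    rw [← Matrix.fromBlocks_toBlocks u₂, lamTr_fromBlocks, Matrix.fromBlocks_multiply,
      Matrix.fromBlocks_multiply, Matrix.toBlocks_fromBlocks₂₁, Matrix.toBlocks_fromBlocks₁₁]
    simp [h11, X, Matrix.mul_assoc, hJJ, lamTr_one]
  have h12 : u₃.toBlocks₁₂ = 0 := by
    ext a b
    have h1 := congrFun (congrFun hs₃ (Sum.inl a)) (Sum.inr b)
    have h2' := congrFun (congrFun hu₃.1 b) a
    rw [AzInv.lamTr_apply, show u₃ (Sum.inr b) (Sum.inl a) = 0 from h2', map_zero] at h1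
    exact neg_eq_zero.1 h1.symm
  have hu₃' : u₃ = Matrix.fromBlocks (J2 W) 0 0 u₃.toBlocks₂₂ := by
    conv_lhs => rw [← Matrix.fromBlocks_toBlocks u₃, hu₃.1, hu₃.2, h12]
  refine ⟨u₃.toBlocks₂₂, ?_, ?_, ((c₁.trans c₂).trans c₃).trans ?_⟩
  · have h := ((c₁.trans c₂).trans c₃).isUnit hu
    rw [hu₃', Matrix.isUnit_iff_isUnit_det, Matrix.det_fromBlocks_zero₂₁] at h
    exact (Matrix.isUnit_iff_isUnit_det _).2 (isUnit_of_mul_isUnit_right h)
  · ext a b
    exact congrFun (congrFun hs₃ (Sum.inr a)) (Sum.inr b)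
  · exact ⟨1, isUnit_one, by rw [one_mul, lamTr_one, mul_one]; exact hu₃'.symm⟩

include hR hI h2 in
/-- Invertible skew hermitian matrices of equal size are congruent. -/
theorem cong_skew : ∀ (n : ℕ) (u u' : Matrix (Fin n) (Fin n) W), IsUnit u → IsUnit u' →
    lamTr lam u = -u → lamTr lam u' = -u' → Cong lam u u'
  | 0, u, u', _, _, _, _ => ⟨1, isUnit_one, Subsingleton.elim _ _⟩
  | 1, u, u', hu, _, hs, _ => by
    exfalso
    have h1 := congrFun (congrFun hs 0) 0
    refine (IsLocalRing.mem_maximalIdeal _).1 (mem_of_skew hR h2 h1) ?_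
    simpa [Matrix.isUnit_iff_isUnit_det] using hu
  | k + 2, u, u', hu, hu', hs, hs' => by
    let e : Fin (k + 2) ≃ Fin 2 ⊕ Fin k := (finCongr (add_comm k 2)).trans finSumFinEquiv.symm
    let r : Matrix (Fin (k + 2)) (Fin (k + 2)) W ≃ₐ[W] Matrix (Fin 2 ⊕ Fin k) (Fin 2 ⊕ Fin k) W :=
      Matrix.reindexAlgEquiv W W e
    have hr : ∀ M, lamTr lam (r M) = r (lamTr lam M) := fun M => rfl
    obtain ⟨F, hF, hFs, cF⟩ := exists_cong_block hR hI h2 (r u) (hu.map r) (by rw [hr, hs, map_neg])
    obtain ⟨F', hF', hFs', cF'⟩ := exists_cong_block hR hI h2 (r u') (hu'.map r) (by rw [hr, hs', map_neg])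
    obtain ⟨g, hg, hgF⟩ := cong_skew k F F' hF hF' hFs hFs'
    have cm : Cong lam (Matrix.fromBlocks (J2 W) 0 0 F) (Matrix.fromBlocks (J2 W) 0 0 F') := by
      refine ⟨Matrix.fromBlocks 1 0 0 g, ?_, ?_⟩
      · rw [Matrix.isUnit_iff_isUnit_det, Matrix.det_fromBlocks_zero₂₁, Matrix.det_one, one_mul]
        exact (Matrix.isUnit_iff_isUnit_det _).1 hg
      · rw [lamTr_fromBlocks, Matrix.fromBlocks_multiply, Matrix.fromBlocks_multiply]
        simp [hgF, lamTr_one]
    have hr' : ∀ M, lamTr lam (r.symm M) = r.symm (lamTr lam M) := fun M => rfl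
    simpa using Cong.map r.symm hr' ((cF.trans cm).trans (cF'.symm hI))

include hR hI h2 in
/-- Two symplectic involutions in the same size are isomorphic. -/
theorem iso_of_neg {n : ℕ} {B : Type*} [Ring B] [Algebra W B] {τ : B → B} {B' : Type*} [Ring B'] [Algebra W B']
    {τ' : B' → B'} (h : Std lam (-1) (Fin n) τ) (h' : Std lam (-1) (Fin n) τ') : Iso' (W := W) τ τ' := by
  obtain ⟨θ, u, hu, hs, hτ⟩ := h
  obtain ⟨θ', u', hu', hs', hτ'⟩ := h'
  rw [neg_one_smul] at hs hs'
  obtain ⟨g, hg, hge⟩ := cong_skew hR hI h2 n u' u hu' hu hs' hs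
  obtain ⟨θ'', hθ''⟩ := std_congr hτ hg isUnit_one (u' := u') (by rw [one_smul, hge])
  exact iso_of_same hu' hθ'' hτ'

end Skew

end Groth.Agent.AzLoc
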