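import Groth.Agent.MultT.EtStages
import Groth.Agent.Hensel.StrictMaps
import Mathlib.RingTheory.Etale.Pi
import Mathlib.RingTheory.Spectrum.Prime.Chevalley
import Mathlib.RingTheory.Flat.FaithfullyFlat.Algebra
import Mathlib.RingTheory.RingHom.FaithfullyFlat
import Mathlib.RingTheory.Smooth.Flat

/-!
Descending data from strict henselisations to an étale covering.
-/

set_option autoImplicit false
set_option backward.isDefEq.respectTransparency false

open TensorProduct

universe u v

namespace Groth.Agent.AzLoc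

open MultT (IsEtColim)

section Colim

variable {S T : Type u} [CommRing S] [CommRing T] [Algebra S T]

theorem exists_vanish1 (h : IsEtColim S T) (E : Type u) [CommRing E] [Algebra S E] [Algebra.Etale S E]
    (χ : E →ₐ[S] T) {V : Type v} [AddCommGroup V] [Module S V] (z : E ⊗[S] V)
    (hz : χ.toLinearMap.rTensor V z = 0) :
    ∃ (E' : Type u) (_ : CommRing E') (_ : Algebra S E') (χ' : E' →ₐ[S] T) (f : E →ₐ[S] E'),
      Algebra.Etale S E' ∧ χ'.comp f = χ ∧ f.toLinearMap.rTensor V z = 0 := by
  classical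
  let π : (V →₀ S) →ₗ[S] V := Finsupp.linearCombination S id
  have hπ : Function.Surjective π := fun v => ⟨Finsupp.single v 1, by simp [π]⟩
  let N := LinearMap.ker π
  have hex : Function.Exact N.subtype π := LinearMap.exact_subtype_ker_map π
  obtain ⟨w, rfl⟩ := LinearMap.lTensor_surjective E hπ z
  have hnat : ∀ {A B : Type u} [CommRing A] [CommRing B] [Algebra S A] [Algebra S B] (g : A →ₐ[S] B) {P Q : Type (max u v)}
      [AddCommMonoid P] [AddCommMonoid Q] [Module S P] [Module S Q] (l : P →ₗ[S] Q) (y : A ⊗[S] P),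
      g.toLinearMap.rTensor Q (l.lTensor A y) = l.lTensor B (g.toLinearMap.rTensor P y) := by
    intro A B _ _ _ _ g P Q _ _ _ _ l y
    rw [← LinearMap.comp_apply, ← LinearMap.comp_apply, LinearMap.rTensor_comp_lTensor,
      LinearMap.lTensor_comp_rTensor]
  have hπn : ∀ {A B : Type u} [CommRing A] [CommRing B] [Algebra S A] [Algebra S B] (g : A →ₐ[S] B)
      (y : A ⊗[S] (V →₀ S)), g.toLinearMap.rTensor V (π.lTensor A y) = π.lTensor B (g.toLinearMap.rTensor _ y) := by
    intro A B _ _ _ _ g y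
    rw [← LinearMap.comp_apply, ← LinearMap.comp_apply, LinearMap.rTensor_comp_lTensor,
      LinearMap.lTensor_comp_rTensor]
  rw [hπn] at hz
  obtain ⟨u, hu⟩ := ((lTensor_exact (M := N) T (by exact hex) hπ) _).1 hz
  obtain ⟨Sf, hS⟩ := TensorProduct.exists_finset u
  obtain ⟨E₁, _, _, χ₁, f₁, het₁, hc₁, hl⟩ := h.exists_lift E χ (fun i : Sf => i.1.1)
  choose t ht using hl
  haveI := het₁
  let u₁ : E₁ ⊗[S] N := ∑ i : Sf, t i ⊗ₜ i.1.2
  have hu₁ : χ₁.toLinearMap.rTensor N u₁ = u := by
    rw [hS, ← Finset.sum_coe_sort Sf]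
    simp [u₁, ht]
  let d : E₁ ⊗[S] (V →₀ S) := f₁.toLinearMap.rTensor _ w - N.subtype.lTensor E₁ u₁
  have hd : χ₁.toLinearMap.rTensor _ d = 0 := by
    rw [map_sub, hnat, hu₁, hu, ← LinearMap.rTensor_comp_apply,
      show χ₁.toLinearMap ∘ₗ f₁.toLinearMap = χ.toLinearMap from congrArg AlgHom.toLinearMap hc₁, sub_self]
  let c := TensorProduct.finsuppScalarRight S S E₁ V d
  have hcz : ∀ v : c.support, χ₁ (c v) = 0 := by
    intro v
    have key : ∀ y : E₁ ⊗[S] (V →₀ S), TensorProduct.finsuppScalarRight S S T V (χ₁.toLinearMap.rTensor _ y) v.1 =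
        χ₁ (TensorProduct.finsuppScalarRight S S E₁ V y v.1) := by
      intro y
      induction y using TensorProduct.induction_on with
      | zero => simp
      | tmul s g => simp
      | add a b ha hb => simp only [map_add, Finsupp.add_apply, ha, hb]
    exact (key d).symm.trans (by rw [hd]; simp)
  obtain ⟨E₂, _, _, χ₂, f₂, het₂, hc₂, hv⟩ := h.exists_vanish E₁ χ₁ (fun v : c.support => c v.1) hcz
  refine ⟨E₂, inferInstance, inferInstance, χ₂, f₂.comp f₁, het₂, by rw [← AlgHom.comp_assoc, hc₂, hc₁], ?_⟩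
  have hd2 : f₂.toLinearMap.rTensor _ d = 0 := by
    apply (TensorProduct.finsuppScalarRight S S E₂ V).injective
    rw [map_zero]
    refine Finsupp.ext fun v => ?_
    have key : ∀ y : E₁ ⊗[S] (V →₀ S), TensorProduct.finsuppScalarRight S S E₂ V (f₂.toLinearMap.rTensor _ y) v =
        f₂ (TensorProduct.finsuppScalarRight S S E₁ V y v) := by
      intro y
      induction y using TensorProduct.induction_on with
      | zero => simp
      | tmul s g => simp
      | add a b ha hb => simp only [map_add, Finsupp.add_apply, ha, hb]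
    rw [key, Finsupp.zero_apply]
    by_cases hs : v ∈ c.support
    · exact hv ⟨v, hs⟩
    · rw [show TensorProduct.finsuppScalarRight S S E₁ V d v = 0 from Finsupp.notMem_support_iff.1 hs, map_zero]
  rw [map_sub, hnat, sub_eq_zero] at hd2
  show (f₂.toLinearMap ∘ₗ f₁.toLinearMap).rTensor V (π.lTensor E w) = 0
  rw [LinearMap.rTensor_comp_apply, hπn, hπn, hd2, ← LinearMap.comp_apply, ← LinearMap.lTensor_comp,
    hex.linearMap_comp_eq_zero, LinearMap.lTensor_zero, LinearMap.zero_apply]

/-- Finitely many vanishing elements vanish at one further stage. -/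
theorem exists_vanish_family (h : IsEtColim S T) : ∀ (m : ℕ) (E : Type u) [CommRing E] [Algebra S E]
    [Algebra.Etale S E] (χ : E →ₐ[S] T) {V : Type v} [AddCommGroup V] [Module S V] (z : Fin m → E ⊗[S] V),
    (∀ i, χ.toLinearMap.rTensor V (z i) = 0) →
    ∃ (E' : Type u) (_ : CommRing E') (_ : Algebra S E') (χ' : E' →ₐ[S] T) (f : E →ₐ[S] E'),
      Algebra.Etale S E' ∧ χ'.comp f = χ ∧ ∀ i, f.toLinearMap.rTensor V (z i) = 0
  | 0, E, _, _, het, χ, V, _, _, z, _ => ⟨E, inferInstance, inferInstance, χ, AlgHom.id S E, het,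
      AlgHom.comp_id χ, fun i => Fin.elim0 i⟩
  | m + 1, E, _, _, het, χ, V, _, _, z, hz => by
    obtain ⟨E₁, _, _, χ₁, f₁, het₁, hc₁, hv⟩ :=
      exists_vanish_family h m E χ (fun i => z i.castSucc) fun i => hz _
    haveI := het₁
    obtain ⟨E₂, _, _, χ₂, f₂, het₂, hc₂, hl⟩ := exists_vanish1 h E₁ χ₁ (f₁.toLinearMap.rTensor V (z (Fin.last m)))
      (by rw [← LinearMap.rTensor_comp_apply]; exact (congrArg (fun g : E →ₐ[S] T => g.toLinearMap.rTensor V (z (Fin.last m))) hc₁).trans (hz _))
    refine ⟨E₂, inferInstance, inferInstance, χ₂, f₂.comp f₁, het₂, by rw [← AlgHom.comp_assoc, hc₂, hc₁],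
      fun i => ?_⟩
    show (f₂.toLinearMap ∘ₗ f₁.toLinearMap).rTensor V (z i) = 0
    rw [LinearMap.rTensor_comp_apply]
    induction i using Fin.lastCases with
    | last => exact hl
    | cast i => rw [hv, map_zero]

theorem exists_vanish_family' (h : IsEtColim S T) (E : Type u) [CommRing E] [Algebra S E] [Algebra.Etale S E]
    (χ : E →ₐ[S] T) {V : Type v} [AddCommGroup V] [Module S V] {ι : Type*} [Finite ι] (z : ι → E ⊗[S] V)
    (hz : ∀ i, χ.toLinearMap.rTensor V (z i) = 0) :
    ∃ (E' : Type u) (_ : CommRing E') (_ : Algebra S E') (χ' : E' →ₐ[S] T) (f : E →ₐ[S] E'),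
      Algebra.Etale S E' ∧ χ'.comp f = χ ∧ ∀ i, f.toLinearMap.rTensor V (z i) = 0 := by
  obtain ⟨m, ⟨e⟩⟩ := Finite.exists_equiv_fin ι
  obtain ⟨E', a, b, χ', f, het, hc, hv⟩ := exists_vanish_family h m E χ (z ∘ e.symm) fun i => hz _
  exact ⟨E', a, b, χ', f, het, hc, fun i => by simpa using hv (e i)⟩

/-- Finitely many elements of a base change come from one stage. -/
theorem exists_lift_tensor (h : IsEtColim S T) : ∀ (m : ℕ) (E : Type u) [CommRing E] [Algebra S E]
    [Algebra.Etale S E] (χ : E →ₐ[S] T) {V : Type v} [AddCommGroup V] [Module S V] (z : Fin m → T ⊗[S] V),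
    ∃ (E' : Type u) (_ : CommRing E') (_ : Algebra S E') (χ' : E' →ₐ[S] T) (f : E →ₐ[S] E') (y : Fin m → E' ⊗[S] V),
      Algebra.Etale S E' ∧ χ'.comp f = χ ∧ ∀ i, χ'.toLinearMap.rTensor V (y i) = z i
  | 0, E, _, _, het, χ, V, _, _, z => ⟨E, inferInstance, inferInstance, χ, AlgHom.id S E, Fin.elim0, het,
      AlgHom.comp_id χ, fun i => Fin.elim0 i⟩
  | m + 1, E, _, _, het, χ, V, _, _, z => by
    classical
    obtain ⟨E₁, _, _, χ₁, f₁, y, het₁, hc₁, hy⟩ := exists_lift_tensor h m E χ (fun i => z i.castSucc)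
    haveI := het₁
    obtain ⟨Sf, hS⟩ := TensorProduct.exists_finset (z (Fin.last m))
    obtain ⟨E₂, _, _, χ₂, f₂, het₂, hc₂, hl⟩ := h.exists_lift E₁ χ₁ (fun i : Sf => i.1.1)
    choose t ht using hl
    refine ⟨E₂, inferInstance, inferInstance, χ₂, f₂.comp f₁,
      Fin.lastCases (∑ i : Sf, t i ⊗ₜ i.1.2) (fun i => f₂.toLinearMap.rTensor V (y i)), het₂,
      by rw [← AlgHom.comp_assoc, hc₂, hc₁], fun i => ?_⟩
    induction i using Fin.lastCases with
    | last => dsimp only; rw [Fin.lastCases_last, hS, ← Finset.sum_coe_sort Sf]; simp [ht]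
    | cast i =>
      dsimp only
      rw [Fin.lastCases_castSucc, ← LinearMap.rTensor_comp_apply,
        show χ₂.toLinearMap ∘ₗ f₂.toLinearMap = χ₁.toLinearMap from congrArg AlgHom.toLinearMap hc₂, hy]

/-- A colimit of étale algebras is flat. -/
theorem flat (h : IsEtColim S T) : Module.Flat S T := by
  refine Module.Flat.iff_lTensor_preserves_injective_linearMap.2 fun N P _ _ _ _ g hg => ?_
  rw [injective_iff_map_eq_zero]
  intro z hz
  obtain ⟨E, _, _, χ, f, y, het, -, hy⟩ := exists_lift_tensor h 1 S (Algebra.ofId S T) (fun _ : Fin 1 => z)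
  haveI := het
  have hnat : ∀ {A B : Type u} [CommRing A] [CommRing B] [Algebra S A] [Algebra S B] (k : A →ₐ[S] B) (x : A ⊗[S] N),
      k.toLinearMap.rTensor P (g.lTensor A x) = g.lTensor B (k.toLinearMap.rTensor N x) := by
    intro A B _ _ _ _ k x
    rw [← LinearMap.comp_apply, ← LinearMap.comp_apply, LinearMap.rTensor_comp_lTensor,
      LinearMap.lTensor_comp_rTensor]
  obtain ⟨E', _, _, χ', f', het', hc', hv⟩ := exists_vanish1 h E χ (g.lTensor E (y 0)) (by rw [hnat, hy, hz])
  haveI := het'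
  haveI : Module.Flat S E' := Algebra.Smooth.flat S E'
  rw [hnat] at hv
  have h0 := Module.Flat.lTensor_preserves_injective_linearMap g hg (hv.trans (map_zero _).symm)
  rw [← hy 0, show χ.toLinearMap = χ'.toLinearMap ∘ₗ f'.toLinearMap from congrArg AlgHom.toLinearMap hc'.symm,
    LinearMap.rTensor_comp_apply, h0, map_zero]

variable [HenselianLocalRing T] [IsSepClosed (IsLocalRing.ResidueField T)]

/-- An étale covering has a point in a strictly henselian ring. -/
theorem exists_point (E : Type u) [CommRing E] [Algebra S E] [Algebra.Etale S E] [Module.FaithfullyFlat S E] :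
    Nonempty (E →ₐ[S] T) := by
  let C := T ⊗[S] E
  obtain ⟨q, hq⟩ := PrimeSpectrum.comap_surjective_of_faithfullyFlat (A := T) (B := C) (IsLocalRing.closedPoint T)
  let L := q.asIdeal.ResidueField
  let φ : IsLocalRing.ResidueField T →+* L :=
    Ideal.Quotient.lift _ (algebraMap T L) fun t ht => by
      rw [IsScalarTower.algebraMap_apply T C L]
      refine Ideal.algebraMap_residueField_eq_zero.2 ?_
      have : (PrimeSpectrum.comap (algebraMap T C) q).asIdeal = IsLocalRing.maximalIdeal T := by rw [hq]; rfl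
      exact this.ge ht
  letI : Algebra (IsLocalRing.ResidueField T) L := φ.toAlgebra
  haveI : IsScalarTower T (IsLocalRing.ResidueField T) L := IsScalarTower.of_algebraMap_eq fun _ => rfl
  haveI : Algebra.Unramified T C := ⟨inferInstance, inferInstance⟩
  obtain ⟨σ, -⟩ := Hensel.exists_algHom_residue T C L (IsScalarTower.toAlgHom T C L)
  have hK : HenselianRing T (RingHom.ker (IsScalarTower.toAlgHom T T (IsLocalRing.ResidueField T)).toRingHom) := by
    have : RingHom.ker (IsScalarTower.toAlgHom T T (IsLocalRing.ResidueField T)).toRingHom =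
        IsLocalRing.maximalIdeal T := IsLocalRing.ker_residue (R := T)
    rw [this]; infer_instance
  obtain ⟨f, -, -⟩ := Hensel.existsUnique_algHom_of_quotient (IsScalarTower.toAlgHom T T (IsLocalRing.ResidueField T))
    IsLocalRing.residue_surjective hK σ
  exact ⟨(f.restrictScalars S).comp Algebra.TensorProduct.includeRight⟩

/-- Units of `T` are squares when units of étale algebras are so locally. -/
theorem exists_sqrt (h : IsEtColim S T)
    (hsq : ∀ (S₁ : Type u) [CommRing S₁] [Algebra S S₁] [Algebra.Etale S S₁] (x : S₁ˣ),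
      ∃ (S₂ : Type u) (_ : CommRing S₂) (_ : Algebra S₁ S₂) (_ : Algebra.Etale S₁ S₂)
        (_ : Module.FaithfullyFlat S₁ S₂) (y : S₂), y * y = algebraMap S₁ S₂ ↑x) (t : Tˣ) :
    ∃ y : T, y * y = t := by
  obtain ⟨E, _, _, χ, f, het, -, hl⟩ := h.exists_lift S (Algebra.ofId S T) (fun b : Bool => if b then (t : T) else ↑t⁻¹)
  haveI := het
  obtain ⟨a, ha⟩ := hl true
  obtain ⟨b, hb⟩ := hl false
  obtain ⟨E', _, _, χ', f', het', hc', hv⟩ :=
    h.exists_vanish E χ (fun _ : Unit => a * b - 1) (fun _ => by simp at ha hb; simp [ha, hb])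
  haveI := het'
  have hab : f' a * f' b = 1 := by have := hv (); rwa [map_sub, map_mul, map_one, sub_eq_zero] at this
  obtain ⟨S₂, _, _, _, _, y, hy⟩ := hsq E' (Units.mkOfMulEqOne _ _ hab)
  letI : Algebra E' T := χ'.toRingHom.toAlgebra
  obtain ⟨π⟩ := exists_point (S := E') (T := T) S₂
  refine ⟨π y, ?_⟩
  rw [← map_mul, hy, AlgHom.commutes]
  show χ' (f' a) = t
  rw [← AlgHom.comp_apply, hc']
  simpa using ha

omit [Algebra S T] in
/-- Units are squares when two is invertible. -/
theorem exists_sqrt_of_two (h2 : IsUnit (2 : T)) (t : Tˣ) : ∃ y : T, y * y = t := by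
  have h2k : (2 : IsLocalRing.ResidueField T) ≠ 0 := by
    simpa [map_ofNat] using (h2.map (IsLocalRing.residue T)).ne_zero
  let g : Polynomial (IsLocalRing.ResidueField T) := Polynomial.X ^ 2 - Polynomial.C (IsLocalRing.residue T t)
  obtain ⟨r, hr⟩ := IsSepClosed.exists_root g (by rw [Polynomial.degree_X_pow_sub_C (by norm_num)]; decide)
    (Polynomial.separable_X_pow_sub_C _ (by simpa using h2k) (t.isUnit.map _).ne_zero)
  obtain ⟨r, rfl⟩ := IsLocalRing.residue_surjective (R := T) r
  have hr' : IsLocalRing.residue T r * IsLocalRing.residue T r = IsLocalRing.residue T t := by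
    simpa [g, Polynomial.IsRoot, sub_eq_zero, pow_two] using hr
  have hru : IsUnit r := by
    by_contra hn
    have h1 : IsLocalRing.residue T r = 0 :=
      (IsLocalRing.residue_eq_zero_iff _).2 ((IsLocalRing.mem_maximalIdeal _).2 hn)
    rw [h1, mul_zero] at hr'
    exact (t.isUnit.map (IsLocalRing.residue T)).ne_zero hr'.symm
  obtain ⟨y, hy, -⟩ := HenselianLocalRing.is_henselian (Polynomial.X ^ 2 - Polynomial.C (t : T))
    (Polynomial.monic_X_pow_sub_C _ (by norm_num)) r
    (by rw [← IsLocalRing.residue_eq_zero_iff]; simp [pow_two, hr'])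
    (by simpa [one_add_one_eq_two] using h2.mul hru)
  exact ⟨y, by simpa [Polynomial.IsRoot, sub_eq_zero, pow_two] using hy⟩

end Colim

section Pi

variable {S : Type u} [CommRing S] {k : ℕ} (E : Fin k → Type u) [∀ i, CommRing (E i)] [∀ i, Algebra S (E i)]
  (V : Type v) [AddCommGroup V] [Module S V]

/-- Glue a family of tensors. -/
noncomputable def glue (y : ∀ i, E i ⊗[S] V) : (Π i, E i) ⊗[S] V :=
  ∑ i, (LinearMap.single S E i).rTensor V (y i)

theorem proj_glue (y : ∀ i, E i ⊗[S] V) (j : Fin k) :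
    (Pi.evalAlgHom S E j).toLinearMap.rTensor V (glue E V y) = y j := by
  rw [glue, map_sum, Finset.sum_eq_single j, ← LinearMap.rTensor_comp_apply,
    show (Pi.evalAlgHom S E j).toLinearMap ∘ₗ LinearMap.single S E j = LinearMap.id from LinearMap.ext fun x => by simp,
    LinearMap.rTensor_id_apply]
  · intro i _ hi
    rw [← LinearMap.rTensor_comp_apply,
      show (Pi.evalAlgHom S E j).toLinearMap ∘ₗ LinearMap.single S E i = 0 from
        LinearMap.ext fun x => by simp [Ne.symm hi],
      LinearMap.rTensor_zero, LinearMap.zero_apply]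
  · simp

theorem proj_ext {z z' : (Π i, E i) ⊗[S] V}
    (h : ∀ i, (Pi.evalAlgHom S E i).toLinearMap.rTensor V z = (Pi.evalAlgHom S E i).toLinearMap.rTensor V z') :
    z = z' := by
  have key : ∀ z : (Π i, E i) ⊗[S] V,
      glue E V (fun i => (Pi.evalAlgHom S E i).toLinearMap.rTensor V z) = z := by
    intro z
    induction z using TensorProduct.induction_on with
    | zero => simp [glue]
    | tmul e v =>
      simp only [glue, LinearMap.rTensor_tmul, ← TensorProduct.sum_tmul, AlgHom.toLinearMap_apply,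
        Pi.evalAlgHom_apply]
      congr 1
      funext j
      simp [Finset.sum_apply, Pi.single_apply]
    | add a b ha hb =>
      conv_rhs => rw [← ha, ← hb]
      simp [glue, Finset.sum_add_distrib]
  rw [← key z, ← key z', funext h]

end Pi

/-- Local solutions at every strict henselisation glue to a covering solution. -/
theorem exists_cover {S : Type u} [CommRing S]
    (P : ∀ (E : Type u) [CommRing E] [Algebra S E], Prop)
    (hloc : ∀ (p : PrimeSpectrum S) (T : Type u) [CommRing T] [HenselianLocalRing T] [Algebra S T],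
      IsSepClosed (IsLocalRing.ResidueField T) →
      (IsLocalRing.maximalIdeal T).comap (algebraMap S T) = p.asIdeal → IsEtColim S T →
      ∃ (E : Type u) (_ : CommRing E) (_ : Algebra S E) (_ : E →ₐ[S] T), Algebra.Etale S E ∧ P E)
    (hprod : ∀ (k : ℕ) (E : Fin k → Type u) [∀ i, CommRing (E i)] [∀ i, Algebra S (E i)],
      (∀ i, P (E i)) → P (Π i, E i)) :
    ∃ (E : Type u) (_ : CommRing E) (_ : Algebra S E), Algebra.Etale S E ∧ Module.FaithfullyFlat S E ∧ P E := by
  have key : ∀ p : PrimeSpectrum S, ∃ (E : Type u) (_ : CommRing E) (_ : Algebra S E),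
      Algebra.Etale S E ∧ P E ∧ IsOpen (Set.range (PrimeSpectrum.comap (algebraMap S E))) ∧
        p ∈ Set.range (PrimeSpectrum.comap (algebraMap S E)) := by
    intro p
    obtain ⟨T, _, _, _, hsc, hp, hcol⟩ := MultT.exists_strict_colim S p.asIdeal
    obtain ⟨E, _, _, χ, het, hPE⟩ := hloc p T hsc hp hcol
    haveI := het
    haveI : Module.Flat S E := Algebra.Smooth.flat S E
    refine ⟨E, inferInstance, inferInstance, het, hPE, ?_, ?_⟩
    · rw [← Set.image_univ]
      exact PrimeSpectrum.isOpenMap_comap_of_hasGoingDown_of_finitePresentation _ isOpen_univ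
    · refine ⟨PrimeSpectrum.comap χ.toRingHom (IsLocalRing.closedPoint T), PrimeSpectrum.ext ?_⟩
      show ((IsLocalRing.maximalIdeal T).comap χ.toRingHom).comap (algebraMap S E) = p.asIdeal
      rw [Ideal.comap_comap]
      conv_rhs => rw [← hp]
      congr 1
      exact RingHom.ext χ.commutes
  choose E hE1 hE2 het hPE hopen hmem using key
  obtain ⟨t, ht⟩ := (isCompact_univ (X := PrimeSpectrum S)).elim_finite_subcover
    (fun p => Set.range (@PrimeSpectrum.comap S (E p) _ (hE1 p).toCommSemiring (algebraMap S (E p))))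
    hopen (fun p _ => Set.mem_iUnion.2 ⟨p, hmem p⟩)
  obtain ⟨k, ⟨e⟩⟩ := Finite.exists_equiv_fin t
  let F : Fin k → Type u := fun i => E (e.symm i).1
  letI : ∀ i, CommRing (F i) := fun i => hE1 _
  letI : ∀ i, Algebra S (F i) := fun i => hE2 _
  haveI : ∀ i, Algebra.Etale S (F i) := fun i => het _
  haveI : Module.Flat S (Π i, F i) := Algebra.Smooth.flat S _
  refine ⟨Π i, F i, inferInstance, inferInstance, inferInstance, ?_, hprod k F fun i => hPE _⟩
  refine Module.FaithfullyFlat.of_comap_surjective fun p => ?_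
  obtain ⟨q, hq, hpq⟩ := Set.mem_iUnion₂.1 (ht (Set.mem_univ p))
  have htr : ∀ (a : t), p ∈ Set.range (@PrimeSpectrum.comap S (E a.1) _ (hE1 a.1).toCommSemiring
      (algebraMap S (E a.1))) → ∀ i, e.symm i = a → p ∈ Set.range (PrimeSpectrum.comap (algebraMap S (F i))) := by
    rintro a h i rfl
    exact h
  obtain ⟨x, hx⟩ := htr ⟨q, hq⟩ hpq (e ⟨q, hq⟩) (e.symm_apply_apply _)
  refine ⟨PrimeSpectrum.comap (Pi.evalRingHom F (e ⟨q, hq⟩)) x, ?_⟩
  rw [← hx, ← PrimeSpectrum.comap_comp_apply]
  rfl

end Groth.Agent.AzLoc
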