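import Groth.Prelude.Def_AzInv
import Groth.Prelude.Def_W4c2azumayainvolQEt
import Groth.Agent.AzLoc.Congr
import Groth.Agent.AzLoc.Cover

/-!
Base changes of algebras with involution.
-/

set_option autoImplicit false
set_option backward.isDefEq.respectTransparency false
noncomputable section

open AzInv (lamTr)
open scoped TensorProduct

universe u v w

namespace Groth.Agent.AzLoc

variable {S : Type u} [CommRing S] {R : Type v} [CommRing R] [Algebra S R]
  {A : Type w} [Ring A] [Algebra S A] [Algebra R A] [IsScalarTower S R A]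
  {E : Type u} [CommRing E] [Algebra S E]

variable (R A E) in
/-- The scalars `E ⊗ R` inside `E ⊗ A`. -/
def scal : E ⊗[S] R →ₐ[E] E ⊗[S] A :=
  Algebra.TensorProduct.map (AlgHom.id E E) (IsScalarTower.toAlgHom S R A)

@[simp] theorem scal_tmul (e : E) (r : R) : scal R A E (e ⊗ₜ[S] r) = e ⊗ₜ[S] algebraMap R A r := rfl

theorem scal_commutes (w : E ⊗[S] R) (x : E ⊗[S] A) : scal R A E w * x = x * scal R A E w := by
  induction w using TensorProduct.induction_on with
  | zero => simp
  | add a b ha hb => rw [map_add, add_mul, mul_add, ha, hb]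
  | tmul e r =>
    induction x using TensorProduct.induction_on with
    | zero => simp
    | add a b ha hb => rw [mul_add, add_mul, ha, hb]
    | tmul e' a => simp [mul_comm e e', Algebra.commutes r a]

/-- The base change of an algebra as an algebra over the base change of the scalars. -/
scoped instance (priority := 900) bcAlg : Algebra (E ⊗[S] R) (E ⊗[S] A) :=
  RingHom.toAlgebra' (scal R A E).toRingHom scal_commutes

theorem bc_smul_def (w : E ⊗[S] R) (x : E ⊗[S] A) : w • x = scal R A E w * x := rfl

scoped instance : IsScalarTower E (E ⊗[S] R) (E ⊗[S] A) :=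
  IsScalarTower.of_algebraMap_eq fun e => ((scal R A E).commutes e).symm

variable (E) in
/-- The base change of an involution of the scalars. -/
def lamE (lam : R ≃ₐ[S] R) : E ⊗[S] R ≃ₐ[E] E ⊗[S] R :=
  Algebra.TensorProduct.congr AlgEquiv.refl lam

@[simp] theorem lamE_tmul (lam : R ≃ₐ[S] R) (e : E) (r : R) : lamE E lam (e ⊗ₜ[S] r) = e ⊗ₜ[S] lam r := rfl

variable {lam : R ≃ₐ[S] R} (t : AzInv.LamInv R A lam)

theorem bc_scal_mul (r : R) (x : E ⊗[S] A) :
    t.bc S lam E ((1 : E) ⊗ₜ[S] algebraMap R A r * x) =
      (1 : E) ⊗ₜ[S] algebraMap R A (lam r) * t.bc S lam E x := by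
  induction x using TensorProduct.induction_on with
  | zero => simp
  | add a b ha hb => rw [mul_add, map_add, map_add, mul_add, ha, hb]
  | tmul e a => simp [← Algebra.smul_def, t.map_smul]

theorem bc_scal (w : E ⊗[S] R) (x : E ⊗[S] A) :
    t.bc S lam E (scal R A E w * x) = scal R A E (lamE E lam w) * t.bc S lam E x := by
  induction w using TensorProduct.induction_on with
  | zero => simp
  | add a b ha hb => rw [map_add, add_mul, map_add, map_add, map_add, add_mul, ha, hb]
  | tmul e r =>
    have h : ∀ z : E ⊗[S] A, (e ⊗ₜ[S] algebraMap R A r) * z = e • (((1 : E) ⊗ₜ[S] algebraMap R A r) * z) :=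
      fun z => by rw [← smul_mul_assoc, TensorProduct.smul_tmul', smul_eq_mul, mul_one]
    rw [scal_tmul, h, map_smul, bc_scal_mul, lamE_tmul, scal_tmul, ← smul_mul_assoc,
      TensorProduct.smul_tmul', smul_eq_mul, mul_one]

theorem bc_mul (x y : E ⊗[S] A) : t.bc S lam E (x * y) = t.bc S lam E y * t.bc S lam E x := by
  induction x using TensorProduct.induction_on with
  | zero => simp
  | add a b ha hb => rw [add_mul, map_add, map_add, mul_add, ha, hb]
  | tmul e a =>
    induction y using TensorProduct.induction_on with
    | zero => simp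
    | add a b ha hb => rw [mul_add, map_add, map_add, add_mul, ha, hb]
    | tmul e' a' => simp [t.map_mul, mul_comm e e']

theorem bc_bc (x : E ⊗[S] A) : t.bc S lam E (t.bc S lam E x) = x := by
  induction x using TensorProduct.induction_on with
  | zero => simp
  | add a b ha hb => rw [map_add, map_add, ha, hb]
  | tmul e a => simp

variable (E) in
/-- The base change of an involution. -/
def bcInv : AzInv.LamInv (E ⊗[S] R) (E ⊗[S] A) (lamE E lam) where
  toFun := t.bc S lam E
  map_add' := map_add _
  map_mul' := bc_mul t
  map_smul' w x := bc_scal t w x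
  invol' := bc_bc t

@[simp] theorem bcInv_apply (x : E ⊗[S] A) : bcInv E t x = t.bc S lam E x := rfl

omit t in
/-- The fixed ring of a flat base change. -/
theorem isInv_lamE (hlam : ∀ r, lam (lam r) = r) (hfix : RInv.IsFixedRing S R lam.toRingEquiv)
    [Module.Flat S E] : IsInv (lamE E lam) := by
  refine ⟨fun x => ?_, ?_, fun x hx => ?_⟩
  · induction x using TensorProduct.induction_on with
    | zero => simp
    | add a b ha hb => rw [map_add, map_add, ha, hb]
    | tmul e r => simp [hlam]
  · have h := Module.Flat.lTensor_preserves_injective_linearMap (M := E) (Algebra.linearMap S R) hfix.1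
    intro a b hab
    have h' : (Algebra.linearMap S R).lTensor E (a ⊗ₜ[S] 1) = (Algebra.linearMap S R).lTensor E (b ⊗ₜ[S] 1) := by
      simpa [Algebra.TensorProduct.algebraMap_apply] using hab
    simpa using congrArg (TensorProduct.rid S E) (h h')
  · let D : R →ₗ[S] R :=
      { toFun := fun r => lam r - r
        map_add' := fun r r' => by rw [map_add]; abel
        map_smul' := fun c r => by rw [map_smul, RingHom.id_apply, smul_sub] }
    have hex : Function.Exact (Algebra.linearMap S R) D := fun r => by
      show lam r - r = 0 ↔ _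
      rw [sub_eq_zero]
      exact hfix.2 r
    have hex' := Module.Flat.lTensor_exact (M := E) hex
    have hD : ∀ y, D.lTensor E y = lamE E lam y - y := fun y => by
      induction y using TensorProduct.induction_on with
      | zero => simp
      | add a b ha hb => rw [map_add, map_add, ha, hb]; abel
      | tmul e r => rw [LinearMap.lTensor_tmul, lamE_tmul, ← TensorProduct.tmul_sub]; rfl
    have hz : D.lTensor E x = 0 := by rw [hD, hx, sub_self]
    obtain ⟨z, hz⟩ := (hex' x).1 hz
    refine ⟨TensorProduct.rid S E z, ?_⟩
    rw [← hz, Algebra.TensorProduct.algebraMap_apply, Algebra.algebraMap_self, RingHom.id_apply]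
    clear hz
    induction z using TensorProduct.induction_on with
    | zero => simp
    | add a b ha hb => rw [map_add, map_add, TensorProduct.add_tmul, ha, hb]
    | tmul e s =>
      rw [TensorProduct.rid_tmul, LinearMap.lTensor_tmul, Algebra.linearMap_apply,
        Algebra.algebraMap_eq_smul_one s, TensorProduct.smul_tmul]

section Azumaya

attribute [local instance] Algebra.TensorProduct.rightAlgebra

variable (R A E) in
/-- `E ⊗ A` is the base change along `R → E ⊗ R`. -/
theorem nonempty_pushout : Nonempty ((E ⊗[S] R) ⊗[R] A ≃ₐ[E ⊗[S] R] E ⊗[S] A) := by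
  letI : Algebra R (E ⊗[S] A) := ((algebraMap (E ⊗[S] R) (E ⊗[S] A)).comp
    (algebraMap R (E ⊗[S] R))).toAlgebra' fun r x => Algebra.commutes (algebraMap R (E ⊗[S] R) r) x
  haveI : IsScalarTower R (E ⊗[S] R) (E ⊗[S] A) := IsScalarTower.of_algebraMap_eq fun _ => rfl
  let g : A →ₐ[R] E ⊗[S] A :=
    { (Algebra.TensorProduct.includeRight : A →ₐ[S] E ⊗[S] A).toRingHom with
      commutes' := fun r => rfl }
  let F : (E ⊗[S] R) ⊗[R] A →ₐ[E ⊗[S] R] E ⊗[S] A :=
    Algebra.TensorProduct.lift (Algebra.ofId _ _) g fun w x => scal_commutes w _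
  have hF : ∀ w a, F (w ⊗ₜ[R] a) = scal R A E w * ((1 : E) ⊗ₜ[S] a) := fun w a =>
    Algebra.TensorProduct.lift_tmul _ _ _ w a
  let G : E ⊗[S] A →+ (E ⊗[S] R) ⊗[R] A :=
    TensorProduct.liftAddHom
      { toFun := fun e =>
          { toFun := fun a => (e ⊗ₜ[S] (1 : R)) ⊗ₜ[R] a
            map_zero' := TensorProduct.tmul_zero _ _
            map_add' := TensorProduct.tmul_add _ }
        map_zero' := by ext a; simp
        map_add' := fun e e' => by ext a; simp [TensorProduct.add_tmul] }
      fun s e a => by
        show ((s • e) ⊗ₜ[S] (1 : R)) ⊗ₜ[R] a = (e ⊗ₜ[S] (1 : R)) ⊗ₜ[R] (s • a)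
        rw [← algebraMap_smul R s a, ← TensorProduct.smul_tmul (algebraMap S R s), Algebra.smul_def (algebraMap S R s),
          show algebraMap R (E ⊗[S] R) (algebraMap S R s) = (1 : E) ⊗ₜ[S] algebraMap S R s from rfl,
          Algebra.TensorProduct.tmul_mul_tmul, one_mul, mul_one, TensorProduct.smul_tmul,
          Algebra.algebraMap_eq_smul_one]
  have hG : ∀ e a, G (e ⊗ₜ[S] a) = (e ⊗ₜ[S] (1 : R)) ⊗ₜ[R] a := fun e a => rfl
  refine ⟨AlgEquiv.ofBijective F (Function.bijective_iff_has_inverse.2 ⟨G, fun z => ?_, fun x => ?_⟩)⟩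
  · induction z using TensorProduct.induction_on with
    | zero => simp
    | add a b ha hb => rw [map_add, map_add, ha, hb]
    | tmul w a =>
      induction w using TensorProduct.induction_on with
      | zero => simp
      | add p q hp hq => rw [TensorProduct.add_tmul, map_add, map_add, hp, hq]
      | tmul e r =>
        rw [hF, scal_tmul, Algebra.TensorProduct.tmul_mul_tmul, mul_one, ← Algebra.smul_def, hG,
          ← TensorProduct.smul_tmul, Algebra.smul_def,
          show algebraMap R (E ⊗[S] R) r = (1 : E) ⊗ₜ[S] r from rfl, Algebra.TensorProduct.tmul_mul_tmul,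
          one_mul, mul_one]
  · induction x using TensorProduct.induction_on with
    | zero => simp
    | add a b ha hb => rw [map_add, map_add, ha, hb]
    | tmul e a => rw [hG, hF]; simp

variable (R A E) in
theorem azumaya_bc {n : ℕ} (hA : AzInv.IsAzumayaDeg R A n) :
    IsAzumaya (E ⊗[S] R) (E ⊗[S] A) ∧
      ∀ p : PrimeSpectrum (E ⊗[S] R), Module.rankAtStalk (R := E ⊗[S] R) (E ⊗[S] A) p = n ^ 2 := by
  obtain ⟨Φ⟩ := nonempty_pushout (S := S) R A E
  haveI := hA.1
  haveI := Azumaya.isAzumaya_baseChange (R := R) (E ⊗[S] R) A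
  refine ⟨IsAzumaya.of_AlgEquiv (E ⊗[S] R) _ _ Φ, fun p => ?_⟩
  rw [← Module.rankAtStalk_eq_of_equiv Φ.toLinearEquiv, Module.rankAtStalk_baseChange]
  exact hA.2 _

end Azumaya

section Matrix

variable (μ : Type) [Fintype μ] [DecidableEq μ]

variable (A E) in
/-- Matrices commute with base change. -/
def mEquiv : E ⊗[S] Matrix μ μ A ≃ₐ[E] Matrix μ μ (E ⊗[S] A) :=
  AlgEquiv.ofBijective
    (Algebra.TensorProduct.lift (Algebra.ofId E (Matrix μ μ (E ⊗[S] A)))
      (Algebra.TensorProduct.includeRight : A →ₐ[S] E ⊗[S] A).mapMatrix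
      fun e M => (Algebra.commutes e _))
    (Function.bijective_iff_has_inverse.2
      ⟨fun X => ∑ i, ∑ j, (Matrix.singleLinearMap S i j).lTensor E (X i j), fun z => by
        induction z using TensorProduct.induction_on with
        | zero => simp
        | add a b ha hb =>
          simp only [map_add, Matrix.add_apply, Finset.sum_add_distrib] at ha hb ⊢
          rw [ha, hb]
        | tmul e M =>
          simp only [Algebra.TensorProduct.lift_tmul, Algebra.ofId_apply, ← Algebra.smul_def,
            Matrix.smul_apply, AlgHom.mapMatrix_apply, Matrix.map_apply,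
            Algebra.TensorProduct.includeRight_apply, TensorProduct.smul_tmul', smul_eq_mul, mul_one,
            LinearMap.lTensor_tmul, Matrix.singleLinearMap_apply, ← TensorProduct.tmul_sum]
          congr 1
          exact (Matrix.matrix_eq_sum_single M).symm,
      fun X => by
        have h : ∀ (i j : μ) (x : E ⊗[S] A),
            Algebra.TensorProduct.lift (Algebra.ofId E (Matrix μ μ (E ⊗[S] A)))
              (Algebra.TensorProduct.includeRight : A →ₐ[S] E ⊗[S] A).mapMatrix (fun e M => (Algebra.commutes e _))
              ((Matrix.singleLinearMap S i j).lTensor E x) = Matrix.single i j x := by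
          intro i j x
          induction x using TensorProduct.induction_on with
          | zero => simp
          | add a b ha hb => rw [map_add, map_add, ha, hb, Matrix.single_add]
          | tmul e a =>
            simp [Algebra.ofId_apply, ← Algebra.smul_def, Matrix.map_single, Matrix.smul_single,
              TensorProduct.smul_tmul']
        simp only [map_sum, h]
        exact (Matrix.matrix_eq_sum_single X).symm⟩)

theorem mEquiv_tmul (e : E) (M : Matrix μ μ A) (i j : μ) :
    mEquiv A E μ (e ⊗ₜ[S] M) i j = e ⊗ₜ[S] M i j := by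
  simp [mEquiv, Algebra.ofId_apply, ← Algebra.smul_def, TensorProduct.smul_tmul']

theorem mEquiv_scal (w : E ⊗[S] R) (x : E ⊗[S] Matrix μ μ A) :
    mEquiv A E μ (scal R (Matrix μ μ A) E w * x) = w • mEquiv A E μ x := by
  induction w using TensorProduct.induction_on with
  | zero => simp
  | add a b ha hb => simp only [map_add, add_mul, add_smul, ha, hb]
  | tmul e r =>
    induction x using TensorProduct.induction_on with
    | zero => simp
    | add a b ha hb => simp only [mul_add, smul_add, map_add, ha, hb]
    | tmul e' M =>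
      ext i j
      simp only [bc_smul_def, scal_tmul, Algebra.TensorProduct.tmul_mul_tmul, Matrix.smul_apply, mEquiv_tmul,
        Matrix.algebraMap_eq_diagonal]
      simp [Matrix.diagonal_mul]

/-- Matrices commute with base change, over the base change of the scalars. -/
def mEquivW : E ⊗[S] Matrix μ μ A ≃ₐ[E ⊗[S] R] Matrix μ μ (E ⊗[S] A) :=
  { mEquiv A E μ with
    commutes' := fun w => by
      show mEquiv A E μ (scal R (Matrix μ μ A) E w) = _
      rw [← mul_one (scal R (Matrix μ μ A) E w), mEquiv_scal, map_one, Algebra.algebraMap_eq_smul_one] }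

theorem mEquiv_bc (x : E ⊗[S] Matrix μ μ A) :
    mEquiv A E μ ((t.matrix μ).bc S lam E x) = lamTr (t.bc S lam E) (mEquiv A E μ x) := by
  induction x using TensorProduct.induction_on with
  | zero => ext i j; simp
  | add a b ha hb => ext i j; simp [ha, hb]
  | tmul e M => ext i j; simp [mEquiv_tmul]

theorem mEquiv_scal_self (w : E ⊗[S] R) (x : E ⊗[S] Matrix μ μ R) :
    mEquiv R E μ (scal R (Matrix μ μ R) E w * x) = w • mEquiv R E μ x := by
  induction w using TensorProduct.induction_on with
  | zero => simp
  | add a b ha hb => simp only [map_add, add_mul, add_smul, ha, hb]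
  | tmul e r =>
    induction x using TensorProduct.induction_on with
    | zero => simp
    | add a b ha hb => simp only [mul_add, smul_add, map_add, ha, hb]
    | tmul e' M =>
      ext i j
      simp only [scal_tmul, Algebra.TensorProduct.tmul_mul_tmul, Matrix.smul_apply, mEquiv_tmul,
        Matrix.algebraMap_eq_diagonal, smul_eq_mul]
      simp [Matrix.diagonal_mul]

/-- Base change of matrices over the scalars. -/
def mEquivR : E ⊗[S] Matrix μ μ R ≃ₐ[E ⊗[S] R] Matrix μ μ (E ⊗[S] R) :=
  { mEquiv R E μ with
    commutes' := fun w => by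
      show mEquiv R E μ (scal R (Matrix μ μ R) E w) = _
      rw [← mul_one (scal R (Matrix μ μ R) E w), mEquiv_scal_self, map_one, Algebra.algebraMap_eq_smul_one] }

@[simp] theorem mEquivR_apply (x : E ⊗[S] Matrix μ μ R) : mEquivR μ x = mEquiv R E μ x := rfl

theorem mEquiv_transpose (hlam : ∀ r, lam (lam r) = r) (x : E ⊗[S] Matrix μ μ R) :
    mEquiv R E μ ((AzInv.LamInv.transpose lam μ hlam).bc S lam E x) = lamTr (lamE E lam) (mEquiv R E μ x) := by
  induction x using TensorProduct.induction_on with
  | zero => ext i j; simp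
  | add a b ha hb => ext i j; simp [ha, hb]
  | tmul e M => ext i j; simp [mEquiv_tmul]

end Matrix

end Groth.Agent.AzLoc
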