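import Groth.Agent.AzLoc.Spread

/-!
Classification of involutions over a strict henselisation.
-/

set_option autoImplicit false
set_option backward.isDefEq.respectTransparency false
noncomputable section

open AzInv (lamTr)
open scoped TensorProduct

universe u v w w'

namespace Groth.Agent.AzLoc

section General

variable {T : Type u} [CommRing T] {W : Type v} [CommRing W] [Algebra T W] {lam : W ≃ₐ[T] W}

theorem Std.card_eq [Nontrivial W] {B : Type*} [Ring B] [Algebra W B] {τ : B → B} {s s' : W} {ι ι' : Type*}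
    [Fintype ι] [DecidableEq ι] [Fintype ι'] [DecidableEq ι'] (h : Std lam s ι τ) (h' : Std lam s' ι' τ) :
    Fintype.card ι = Fintype.card ι' := by
  obtain ⟨θ, -⟩ := h
  obtain ⟨θ', -⟩ := h'
  have h1 := (θ.symm.trans θ').toLinearEquiv.finrank_eq
  rw [Module.finrank_matrix, Module.finrank_matrix, Module.finrank_self, mul_one, mul_one] at h1
  exact Nat.mul_self_inj.1 h1

theorem Std.cast {B : Type*} [Ring B] [Algebra W B] {τ : B → B} {s : W} {n n' : ℕ} (h : Std lam s (Fin n) τ)
    (e : n = n') : Std lam s (Fin n') τ := h.reindex (finCongr e)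

theorem Std1.reindex {B : Type*} [Ring B] [Algebra W B] {τ : B → B} {ι κ : Type*} [Fintype ι] [DecidableEq ι]
    [Fintype κ] [DecidableEq κ] (h : Std1 lam ι τ) (e : ι ≃ κ) : Std1 lam κ τ := by
  obtain ⟨θ, hθ⟩ := h
  exact ⟨θ.trans (Matrix.reindexAlgEquiv W W e), fun b => by rw [AlgEquiv.trans_apply, hθ]; rfl⟩

theorem Std.isUnit_sign (hI : IsInv lam) {B : Type*} [Ring B] [Algebra W B] {τ : B → B} {s : W} {ι : Type*}
    [Fintype ι] [DecidableEq ι] [Nonempty ι] (h : Std lam s ι τ) : lam s * s = 1 := by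
  obtain ⟨θ, u, hu, hs, -⟩ := h
  apply smul_left_cancel_of_isUnit hu
  have := congrArg (lamTr lam) hs
  rw [lamTr_lamTr hI, lamTr_smul, hs, smul_smul] at this
  rw [one_smul, ← this]

end General

variable {S : Type u} [CommRing S] {R : Type v} [CommRing R] [Algebra S R] {lam : R ≃ₐ[S] R}
  {A : Type w} [Ring A] [Algebra S A] [Algebra R A] [IsScalarTower S R A]
  {A' : Type w'} [Ring A'] [Algebra S A'] [Algebra R A'] [IsScalarTower S R A']
  (T : Type u) [CommRing T] [HenselianLocalRing T] [Algebra S T] [IsSepClosed (IsLocalRing.ResidueField T)]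

omit [IsSepClosed (IsLocalRing.ResidueField T)] in
theorem isUnit_two_bc (h2 : IsUnit (2 : S)) : IsUnit (2 : T ⊗[S] R) := by
  rw [← map_ofNat (algebraMap S (T ⊗[S] R)) 2]
  exact h2.map _

variable (hI : IsInv (lamE T lam)) (t : AzInv.LamInv R A lam) (t' : AzInv.LamInv R A' lam)

include hI in
/-- Every involution has a presentation over a strict henselisation. -/
theorem exists_std {n : ℕ} (hn : 0 < n) (hA : AzInv.IsAzumayaDeg R A n) :
    ∃ s, lamE T lam s * s = 1 ∧ Std (lamE T lam) s (Fin n) (bcInv T t) := by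
  haveI := hI.isIntegral
  haveI := hI.finite_maximal
  obtain ⟨hAz, hr⟩ := azumaya_bc (S := S) (E := T) R A hA
  haveI := hAz
  obtain ⟨θ⟩ := exists_matrixIso T (T ⊗[S] A) hn hr
  exact exists_std_of_equiv T hI hn θ (bcInv T t)

omit [HenselianLocalRing T] [IsSepClosed (IsLocalRing.ResidueField T)] in
/-- Blowing up to matrices. -/
theorem Std.bcMatrix {s : T ⊗[S] R} {n : ℕ} (h : Std (lamE T lam) s (Fin n) (bcInv T t)) (m : ℕ) :
    Std (lamE T lam) s (Fin (m * n)) (bcInv T (t.matrix (Fin m))) :=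
  ((h.matrix (Fin m)).of_iso (τ' := bcInv T (t.matrix (Fin m)))
    ⟨mEquivW (Fin m), fun b => mEquiv_bc t (Fin m) b⟩).reindex finProdFinEquiv

omit [HenselianLocalRing T] [IsSepClosed (IsLocalRing.ResidueField T)] in
/-- The transpose is standard. -/
theorem std1_transpose (hlam : ∀ r, lam (lam r) = r) (m : ℕ) :
    Std1 (lamE T lam) (Fin m) (bcInv T (AzInv.LamInv.transpose lam (Fin m) hlam)) :=
  ⟨mEquivR (Fin m), fun b => mEquiv_transpose (Fin m) hlam b⟩

omit [HenselianLocalRing T] [IsSepClosed (IsLocalRing.ResidueField T)] in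
/-- Twisted transposes by global matrices. -/
theorem std_conj_transpose (hlam : ∀ r, lam (lam r) = r) {m : ℕ} (w : (Matrix (Fin m) (Fin m) R)ˣ) (e : R)
    (hw : AzInv.LamInv.transpose lam (Fin m) hlam (↑w : Matrix (Fin m) (Fin m) R) = e • (↑w : Matrix (Fin m) (Fin m) R))
    (he : lam e * e = 1) :
    Std (lamE T lam) ((1 : T) ⊗ₜ[S] e) (Fin m)
      (bcInv T ((AzInv.LamInv.transpose lam (Fin m) hlam).conj w e hw he)) := by
  refine ⟨mEquivR (Fin m), mEquivR (Fin m) ((1 : T) ⊗ₜ[S] (w : Matrix (Fin m) (Fin m) R)),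
    IsUnit.map _ (w.isUnit.map (Algebra.TensorProduct.includeRight : _ →ₐ[S] T ⊗[S] _)), ?_, fun b => ?_⟩
  · rw [mEquivR_apply, ← mEquiv_transpose _ hlam, AzInv.LamInv.bc_tmul, hw]
    show _ = _ • mEquiv R T (Fin m) _
    rw [← mEquiv_scal_self, scal_tmul, Algebra.TensorProduct.tmul_mul_tmul, one_mul, Algebra.smul_def]
  · rw [mEquivR_apply, mEquivR_apply, mEquivR_apply, ← mEquiv_transpose _ hlam, ← map_mul, ← map_mul, bcInv_apply]
    congr 1
    induction b using TensorProduct.induction_on with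
    | zero => simp
    | add a b ha hb => simp only [map_add, add_mul, mul_add, ha, hb]
    | tmul e' M => simp [mul_assoc]

theorem self_matrix_eq (hlam : ∀ r, lam (lam r) = r) (m : ℕ) :
    (AzInv.LamInv.self lam hlam).matrix (Fin m) = AzInv.LamInv.transpose lam (Fin m) hlam :=
  AzInv.LamInv.ext fun _ => rfl

variable {T}

/-- Residually trivial involutions with a sign. -/
theorem iso_of_sign {B : Type*} [Ring B] [Algebra (T ⊗[S] R) B] {B' : Type*} [Ring B'] [Algebra (T ⊗[S] R) B']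
    {τ : B → B} {τ' : B' → B'} (hI : IsInv (lamE T lam)) (hR : Ram (lamE T lam))
    (hsq : ∀ t : Tˣ, ∃ y : T, y * y = t) {n : ℕ} {s : T ⊗[S] R}
    (hcond : (s = 1 ∧ (IsUnit (2 : T ⊗[S] R) ∨ Odd n)) ∨ (s = -1 ∧ IsUnit (2 : T ⊗[S] R)))
    (h : Std (lamE T lam) s (Fin n) τ) (h' : Std (lamE T lam) s (Fin n) τ') :
    Iso' (W := T ⊗[S] R) τ τ' := by
  haveI := hI.isLocalRing hR
  rcases hcond with ⟨rfl, hc⟩ | ⟨rfl, h2⟩
  · exact (std1_of_one hR hI hsq hc h).iso (std1_of_one hR hI hsq hc h')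
  · exact iso_of_neg hR hI h2 h h'

end Groth.Agent.AzLoc
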