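import Groth.Agent.Hensel.Idempotent
import Mathlib.RingTheory.Nakayama
import Mathlib.LinearAlgebra.Matrix.Charpoly.LinearMap
import Mathlib.FieldTheory.IsSepClosed
import Mathlib.FieldTheory.PurelyInseparable.Basic
import Mathlib.RingTheory.Spectrum.Maximal.Basic
import Mathlib.RingTheory.AdjoinRoot
import Mathlib.RingTheory.Henselian
import Mathlib.Algebra.Polynomial.SpecificDegree
import Mathlib.Tactic.LinearCombination

/-!
Semilocal algebras over a strictly henselian base: idempotent lifting and algebras with an involution.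
-/

set_option autoImplicit false

open Polynomial

universe u x y

namespace Groth.Agent.AzLoc

section Jac

variable {W : Type x} [CommRing W]

/-- The Jacobson radical. -/
abbrev J (W : Type x) [CommRing W] : Ideal W := Ideal.jacobson (⊥ : Ideal W)

theorem mem_J_iff {w : W} : w ∈ J W ↔ ∀ q : MaximalSpectrum W, w ∈ q.asIdeal := by
  simp only [J, Ideal.jacobson, Submodule.mem_sInf, Set.mem_setOf_eq]
  exact ⟨fun h q => h _ ⟨bot_le, q.isMaximal⟩, fun h I hI => h ⟨I, hI.2⟩⟩

theorem mul_mem_right_smul {B : Type y} [Ring B] [Algebra W B] {I : Ideal W} {z : B}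
    (hz : z ∈ I • (⊤ : Submodule W B)) (b : B) : z * b ∈ I • (⊤ : Submodule W B) := by
  have h := Submodule.mem_map_of_mem (f := LinearMap.mulRight W b) hz
  rw [Submodule.map_smul''] at h
  exact Submodule.smul_mono le_rfl le_top h

theorem mul_mem_left_smul {B : Type y} [Ring B] [Algebra W B] {I : Ideal W} {z : B}
    (hz : z ∈ I • (⊤ : Submodule W B)) (b : B) : b * z ∈ I • (⊤ : Submodule W B) := by
  have h := Submodule.mem_map_of_mem (f := LinearMap.mulLeft W b) hz
  rw [Submodule.map_smul''] at h
  exact Submodule.smul_mono le_rfl le_top h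

variable [Finite (MaximalSpectrum W)]

theorem exists_glue (f : MaximalSpectrum W → W) : ∃ r : W, ∀ q, r - f q ∈ q.asIdeal :=
  Ideal.exists_forall_sub_mem_ideal (I := fun q : MaximalSpectrum W => q.asIdeal) (fun q q' h =>
    Ideal.isCoprime_iff_sup_eq.2 (Ideal.IsMaximal.coprime_of_ne q.isMaximal q'.isMaximal
      fun he => h (MaximalSpectrum.ext he))) f

theorem exists_delta : ∃ c : MaximalSpectrum W → W, (∀ q, c q - 1 ∈ q.asIdeal) ∧
    ∀ q q', q ≠ q' → c q ∈ q'.asIdeal := by
  classical
  choose c hc using fun q : MaximalSpectrum W => exists_glue (fun q' => if q' = q then (1 : W) else 0)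
  refine ⟨c, fun q => by simpa using hc q q, fun q q' h => ?_⟩
  simpa [Ne.symm h] using hc q q'

theorem exists_glue_module {M : Type y} [AddCommGroup M] [Module W M] (f : MaximalSpectrum W → M) :
    ∃ z : M, ∀ q, z - f q ∈ q.asIdeal • (⊤ : Submodule W M) := by
  classical
  haveI := Fintype.ofFinite (MaximalSpectrum W)
  obtain ⟨c, hc1, hc0⟩ := exists_delta (W := W)
  refine ⟨∑ q, c q • f q, fun q => ?_⟩
  rw [← Finset.add_sum_erase _ _ (Finset.mem_univ q), add_sub_right_comm,
    show c q • f q - f q = (c q - 1) • f q by rw [sub_smul, one_smul]]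
  exact add_mem (Submodule.smul_mem_smul (hc1 q) trivial)
    (sum_mem fun q' hq' => Submodule.smul_mem_smul (hc0 q' q (Finset.ne_of_mem_erase hq')) trivial)

theorem mem_J_smul_of_forall {M : Type y} [AddCommGroup M] [Module W M] {z : M}
    (h : ∀ q : MaximalSpectrum W, z ∈ q.asIdeal • (⊤ : Submodule W M)) : z ∈ J W • (⊤ : Submodule W M) := by
  classical
  haveI := Fintype.ofFinite (MaximalSpectrum W)
  obtain ⟨c, hc1, hc0⟩ := exists_delta (W := W)
  have hsum : (1 - ∑ q, c q) ∈ J W := mem_J_iff.2 fun q => by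
    rw [← Finset.add_sum_erase _ _ (Finset.mem_univ q), ← sub_sub,
      show 1 - c q = -(c q - 1) by ring]
    exact sub_mem (neg_mem (hc1 q)) (sum_mem fun q' hq' => hc0 q' q (Finset.ne_of_mem_erase hq'))
  have hz : z = (1 - ∑ q, c q) • z + ∑ q, c q • z := by
    rw [← Finset.sum_smul, ← add_smul, sub_add_cancel, one_smul]
  rw [hz]
  refine add_mem (Submodule.smul_mem_smul hsum trivial) (sum_mem fun q _ => ?_)
  refine Submodule.smul_induction_on (h q) (fun w hw m _ => ?_) (fun a b ha hb => ?_)
  · rw [smul_smul]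
    refine Submodule.smul_mem_smul (mem_J_iff.2 fun q' => ?_) trivial
    rcases eq_or_ne q q' with rfl | hne
    · exact Ideal.mul_mem_left _ _ hw
    · exact Ideal.mul_mem_right _ _ (hc0 q q' hne)
  · rw [smul_add]
    exact add_mem ha hb

omit [Finite (MaximalSpectrum W)] in
/-- Nakayama: a map to a projective module bijective modulo the radical is bijective. -/
theorem bijective_of_mod {M : Type y} [AddCommGroup M] [Module W M] [Module.Finite W M] {N : Type*}
    [AddCommGroup N] [Module W N] [Module.Finite W N] [Module.Projective W N] (f : M →ₗ[W] N)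
    (hs : ∀ z, ∃ m, z - f m ∈ J W • (⊤ : Submodule W N))
    (hi : ∀ m, f m ∈ J W • (⊤ : Submodule W N) → m ∈ J W • (⊤ : Submodule W M)) : Function.Bijective f := by
  have hsurj : Function.Surjective f := by
    rw [← LinearMap.range_eq_top, eq_top_iff]
    refine Submodule.le_of_le_smul_of_le_jacobson_bot (I := J W) Module.Finite.fg_top le_rfl fun z _ => ?_
    obtain ⟨m, hm⟩ := hs z
    exact Submodule.mem_sup.2 ⟨f m, LinearMap.mem_range_self f m, _, hm, add_sub_cancel _ _⟩
  obtain ⟨s, hs'⟩ := Module.projective_lifting_property f LinearMap.id hsurj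
  refine ⟨?_, hsurj⟩
  rw [← LinearMap.ker_eq_bot]
  have hπ : LinearMap.ker f = LinearMap.range (LinearMap.id - s ∘ₗ f) := by
    apply le_antisymm
    · intro m hm
      exact ⟨m, by simp [LinearMap.mem_ker.1 hm]⟩
    · rintro _ ⟨m, rfl⟩
      have := LinearMap.congr_fun hs' (f m)
      simp only [LinearMap.comp_apply, LinearMap.id_apply] at this
      simp [this]
  refine Submodule.eq_bot_of_le_smul_of_le_jacobson_bot (J W) _ ?_ (fun m hm => ?_) le_rfl
  · rw [hπ, LinearMap.range_eq_map]
    exact Module.Finite.fg_top.map _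
  · have hm' := Submodule.mem_map_of_mem (f := LinearMap.id - s ∘ₗ f)
      (hi m (by rw [LinearMap.mem_ker.1 hm]; exact zero_mem _))
    rw [Submodule.map_smul'', Submodule.map_top, ← hπ] at hm'
    simpa [LinearMap.mem_ker.1 hm] using hm'

end Jac

section Idem

variable (T : Type u) [CommRing T] [HenselianLocalRing T] {W : Type x} [CommRing W] [Algebra T W]
  [Algebra.IsIntegral T W]

theorem J_le_radical : J W ≤ ((IsLocalRing.maximalIdeal T).map (algebraMap T W)).radical := by
  intro w hw
  rw [Ideal.radical_eq_sInf, Submodule.mem_sInf]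
  rintro P ⟨hle, hP⟩
  haveI := hP
  have hc : Ideal.comap (algebraMap T W) P = IsLocalRing.maximalIdeal T :=
    ((IsLocalRing.maximalIdeal.isMaximal T).eq_of_le (Ideal.comap_ne_top _ hP.ne_top)
      (Ideal.map_le_iff_le_comap.1 hle)).symm
  exact mem_J_iff.1 hw ⟨P, Ideal.isMaximal_of_isIntegral_of_isMaximal_comap (R := T) P
    (by rw [hc]; exact IsLocalRing.maximalIdeal.isMaximal T)⟩

include T in
/-- Idempotents modulo the radical lift in finite algebras, commutative or not. -/
theorem exists_idem {B : Type y} [Ring B] [Algebra W B] [Module.Finite W B] (a : B)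
    (ha : a * a - a ∈ J W • (⊤ : Submodule W B)) :
    ∃ f : B, f * f = f ∧ f - a ∈ J W • (⊤ : Submodule W B) := by
  obtain ⟨Q, hQ, -, hc, hQa⟩ :=
    LinearMap.exists_monic_and_natDegree_eq_and_coeff_mem_pow_and_aeval_eq_zero W
      (Algebra.lmul W B (a * a - a)) (J W) (by
        rintro _ ⟨b, rfl⟩
        exact mul_mem_right_smul ha b)
  have hδ : aeval (a * a - a) Q = 0 := by
    have h := LinearMap.congr_fun hQa 1
    rw [aeval_algHom_apply] at h
    simpa using h
  let p : W[X] := Q.comp (X ^ 2 - X)
  have hd : (X ^ 2 - X : W[X]).Monic := monic_X_pow_sub (degree_X_le.trans_lt (by norm_num))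
  by_cases hW : Subsingleton W
  · have : Subsingleton B := Module.subsingleton W B
    exact ⟨a, Subsingleton.elim _ _, by simp⟩
  haveI : Nontrivial W := not_subsingleton_iff_nontrivial.1 hW
  have hp : p.Monic := hQ.comp hd (by
    rw [natDegree_sub_eq_left_of_natDegree_lt] <;> simp)
  have hpa : aeval a p = 0 := by
    rw [aeval_comp]
    simpa [pow_two] using hδ
  let C := AdjoinRoot p
  haveI : Module.Finite W C := hp.finite_adjoinRoot
  haveI : Algebra.IsIntegral W C := Algebra.IsIntegral.of_finite W C
  haveI : Algebra.IsIntegral T C := Algebra.IsIntegral.trans W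
  let φ : C →ₐ[W] B := Ideal.Quotient.liftₐ (Ideal.span {p}) (aeval a) fun q hq => by
    obtain ⟨r, rfl⟩ := Ideal.mem_span_singleton.1 hq
    rw [map_mul, hpa, zero_mul]
  let r : C := AdjoinRoot.root p
  have hφr : φ r = a := aeval_X a
  have hJC : ∀ z ∈ (J W).map (algebraMap W C), φ z ∈ J W • (⊤ : Submodule W B) := by
    intro z hz
    have hz' : z ∈ J W • (⊤ : Submodule W C) := by rw [Ideal.smul_top_eq_map]; exact hz
    have h := Submodule.mem_map_of_mem (f := φ.toLinearMap) hz'
    rw [Submodule.map_smul''] at h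
    exact Submodule.smul_mono le_rfl le_top h
  have hpow : (r * r - r) ^ (Q.natDegree + 1) ∈ (J W).map (algebraMap W C) := by
    have h0 : aeval (r * r - r) Q = 0 := by
      have h1 : aeval r p = 0 := (AdjoinRoot.aeval_eq p).trans AdjoinRoot.mk_self
      rw [aeval_comp] at h1
      simpa [pow_two] using h1
    rw [aeval_eq_sum_range, Finset.sum_range_succ, hQ.coeff_natDegree, one_smul] at h0
    rw [pow_succ, eq_neg_of_add_eq_zero_right h0]
    refine Ideal.mul_mem_right _ _ (neg_mem (sum_mem fun k hk => ?_))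
    rw [Algebra.smul_def]
    exact Ideal.mul_mem_right _ _ (Ideal.mem_map_of_mem _
      (Ideal.pow_le_self (Nat.sub_ne_zero_of_lt (Finset.mem_range.1 hk)) (hc k)))
  have hrad : (J W).map (algebraMap W C) ≤
      ((IsLocalRing.maximalIdeal T).map (algebraMap T C)).radical := by
    rw [IsScalarTower.algebraMap_eq T W C, ← Ideal.map_map]
    exact (Ideal.map_mono (J_le_radical T)).trans (Ideal.map_radical_le _)
  obtain ⟨M, hM⟩ := hrad hpow
  rw [← pow_mul] at hM
  set N := (Q.natDegree + 1) * M + 1
  have hN : (r * (1 - r)) ^ N ∈ (IsLocalRing.maximalIdeal T).map (algebraMap T C) := by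
    rw [show r * (1 - r) = -1 * (r * r - r) by ring, mul_pow]
    exact Ideal.mul_mem_left _ _ (by
      simpa [N, pow_succ] using Ideal.mul_mem_right (r * r - r) _ hM)
  obtain ⟨u, v, huv⟩ := (show IsCoprime r (1 - r) from ⟨1, 1, by ring⟩).pow (m := N) (n := N)
  obtain ⟨e, he, heb⟩ := Hensel.exists_idempotent_lift (I := IsLocalRing.maximalIdeal T) (u * r ^ N) (by
    have hid : u * r ^ N * (u * r ^ N) - u * r ^ N = -(u * v) * (r * (1 - r)) ^ N := by
      rw [mul_pow]; linear_combination (u * r ^ N) * huv
    rw [hid]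
    exact Ideal.mul_mem_left _ _ hN)
  refine ⟨φ e, by rw [← map_mul, he.eq], ?_⟩
  have hle : (IsLocalRing.maximalIdeal T).map (algebraMap T C) ≤ (J W).map (algebraMap W C) := by
    rw [IsScalarTower.algebraMap_eq T W C, ← Ideal.map_map]
    exact Ideal.map_mono (Hensel.map_le_jacobson (IsLocalRing.maximalIdeal_le_jacobson ⊥))
  obtain ⟨w, hw⟩ : r * (1 - r) ∣ u * r ^ N - r := by
    refine ⟨u * r ^ ((Q.natDegree + 1) * M) - v * (1 - r) ^ ((Q.natDegree + 1) * M), ?_⟩
    simp only [N, pow_succ] at huv ⊢
    linear_combination r * huv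
  rw [← hφr, ← map_sub, show e - r = (e - u * r ^ N) + (u * r ^ N - r) by ring, hw, map_add, map_mul,
    show φ (r * (1 - r)) = -(a * a - a) by rw [map_mul, map_sub, map_one, hφr, mul_sub, mul_one, neg_sub]]
  exact add_mem (hJC _ (hle heb)) (mul_mem_right_smul (neg_mem ha) _)

end Idem

/-- Residue fields of an integral algebra over a strictly henselian ring are separably closed. -/
theorem isSepClosed_residue (T : Type u) [CommRing T] [IsLocalRing T]
    [IsSepClosed (IsLocalRing.ResidueField T)] {W : Type x} [CommRing W] [Algebra T W]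
    [Algebra.IsIntegral T W] (q : Ideal W) [q.IsMaximal] :
    @IsSepClosed (W ⧸ q) (Ideal.Quotient.field q) := by
  letI := Ideal.Quotient.field q
  haveI := Ideal.isMaximal_comap_of_isIntegral_of_isMaximal (R := T) q
  have hc : q.comap (algebraMap T W) = IsLocalRing.maximalIdeal T := IsLocalRing.eq_maximalIdeal this
  let φ : IsLocalRing.ResidueField T →+* W ⧸ q :=
    Ideal.Quotient.lift _ (algebraMap T (W ⧸ q)) fun t ht => by
      rw [IsScalarTower.algebraMap_apply T W (W ⧸ q)]
      exact Ideal.Quotient.eq_zero_iff_mem.2 (hc.ge ht)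
  letI : Algebra (IsLocalRing.ResidueField T) (W ⧸ q) := φ.toAlgebra
  haveI : IsScalarTower T (IsLocalRing.ResidueField T) (W ⧸ q) := IsScalarTower.of_algebraMap_eq fun _ => rfl
  haveI : Algebra.IsIntegral (IsLocalRing.ResidueField T) (W ⧸ q) := Algebra.IsIntegral.tower_top T
  exact Algebra.IsAlgebraic.isSepClosed (F := IsLocalRing.ResidueField T) (E := W ⧸ q)

section Invol

variable {T : Type u} [CommRing T] {W : Type x} [CommRing W] [Algebra T W] {lam : W ≃ₐ[T] W}

/-- An involution whose fixed ring is the base. -/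
structure IsInv (lam : W ≃ₐ[T] W) : Prop where
  invol : ∀ w, lam (lam w) = w
  inj : Function.Injective (algebraMap T W)
  fixed : ∀ w, lam w = w → w ∈ Set.range (algebraMap T W)

/-- The involution is trivial on every residue field. -/
def Ram (lam : W ≃ₐ[T] W) : Prop := ∀ q : MaximalSpectrum W, ∀ w, lam w - w ∈ q.asIdeal

/-- An idempotent exchanged with its complement. -/
def Spl (lam : W ≃ₐ[T] W) : Prop := ∃ e : W, e * e = e ∧ lam e = 1 - e

theorem IsInv.exists_trace (hI : IsInv lam) (w : W) :
    ∃ b c : T, algebraMap T W b = w + lam w ∧ algebraMap T W c = w * lam w := by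
  obtain ⟨b, hb⟩ := hI.fixed (w + lam w) (by rw [map_add, hI.invol, add_comm])
  obtain ⟨c, hc⟩ := hI.fixed (w * lam w) (by rw [map_mul, hI.invol, mul_comm])
  exact ⟨b, c, hb, hc⟩

theorem IsInv.isIntegral (hI : IsInv lam) : Algebra.IsIntegral T W := by
  refine ⟨fun w => ?_⟩
  obtain ⟨b, c, hb, hc⟩ := hI.exists_trace w
  refine ⟨X ^ 2 - C b * X + C c, ?_, ?_⟩
  · rw [sub_add]
    refine monic_X_pow_sub (lt_of_le_of_lt (degree_sub_le _ _) (max_lt ?_ ?_))
    · exact lt_of_le_of_lt (degree_C_mul_X_le _) (by norm_num)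
    · exact lt_of_le_of_lt degree_C_le (by norm_num)
  · simp only [eval₂_add, eval₂_sub, eval₂_mul, eval₂_pow, eval₂_X, eval₂_C, hb, hc]
    ring

/-- The conjugate maximal ideal. -/
def bar (lam : W ≃ₐ[T] W) (q : MaximalSpectrum W) : MaximalSpectrum W :=
  ⟨q.asIdeal.comap lam, Ideal.comap_isMaximal_of_surjective lam lam.surjective⟩

theorem mem_bar {q : MaximalSpectrum W} {w : W} : w ∈ (bar lam q).asIdeal ↔ lam w ∈ q.asIdeal := Iff.rfl

theorem IsInv.eq_or_eq_bar [IsLocalRing T] (hI : IsInv lam) (q q' : MaximalSpectrum W) :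
    q' = q ∨ q' = bar lam q := by
  haveI := hI.isIntegral
  by_contra h
  rw [not_or] at h
  have h1 : ¬ q'.asIdeal ≤ q.asIdeal := fun hle =>
    h.1 (MaximalSpectrum.ext (q'.isMaximal.eq_of_le q.isMaximal.ne_top hle))
  have h2 : ¬ q'.asIdeal ≤ (bar lam q).asIdeal := fun hle =>
    h.2 (MaximalSpectrum.ext (q'.isMaximal.eq_of_le (bar lam q).isMaximal.ne_top hle))
  have h3 : ¬ ((q'.asIdeal : Set W) ⊆ q.asIdeal ∪ (bar lam q).asIdeal) := by
    rw [Ideal.subset_union]; exact fun h' => h'.elim h1 h2
  obtain ⟨x, hx, hxn⟩ := Set.not_subset.1 h3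
  obtain ⟨-, c, -, hc⟩ := hI.exists_trace x
  haveI := q.isMaximal
  haveI := q'.isMaximal
  have hcomap : ∀ (P : Ideal W) [P.IsMaximal], P.comap (algebraMap T W) = IsLocalRing.maximalIdeal T :=
    fun P _ => IsLocalRing.eq_maximalIdeal (Ideal.isMaximal_comap_of_isIntegral_of_isMaximal P)
  have h' : algebraMap T W c ∈ q.asIdeal := by
    have hc' : c ∈ q'.asIdeal.comap (algebraMap T W) := by
      rw [Ideal.mem_comap, hc]; exact Ideal.mul_mem_right _ _ hx
    rw [hcomap, ← hcomap q.asIdeal] at hc'
    exact hc'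
  rw [hc] at h'
  rcases q.isMaximal.isPrime.mem_or_mem h' with hq | hq
  · exact hxn (Or.inl hq)
  · exact hxn (Or.inr hq)

theorem IsInv.finite_maximal [IsLocalRing T] (hI : IsInv lam) : Finite (MaximalSpectrum W) := by
  rcases isEmpty_or_nonempty (MaximalSpectrum W) with h | h
  · infer_instance
  obtain ⟨q⟩ := h
  exact Finite.of_surjective (fun b : Bool => if b then q else bar lam q) fun q' => by
    rcases hI.eq_or_eq_bar q q' with rfl | rfl
    · exact ⟨true, rfl⟩
    · exact ⟨false, rfl⟩

theorem IsInv.nontrivial [Nontrivial T] (hI : IsInv lam) : Nontrivial W := hI.inj.nontrivial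

theorem IsInv.not_ram_spl [Nontrivial T] (hI : IsInv lam) (h : Ram lam) : ¬ Spl lam := by
  rintro ⟨e, he, hle⟩
  haveI := hI.nontrivial
  obtain ⟨m, hm⟩ := Ideal.exists_maximal W
  have h1 := h ⟨m, hm⟩ e
  rw [hle] at h1
  rcases hm.isPrime.mem_or_mem (show e * (1 - e) ∈ m by rw [mul_sub, mul_one, he, sub_self]; exact zero_mem _)
    with h2 | h2
  · exact hm.ne_top ((Ideal.eq_top_iff_one m).2 (by
      have := add_mem h1 (add_mem h2 h2)
      rwa [show 1 - e - e + (e + e) = 1 by ring] at this))
  · exact hm.ne_top ((Ideal.eq_top_iff_one m).2 (by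
      have := sub_mem (add_mem h2 h2) h1
      rwa [show 1 - e + (1 - e) - (1 - e - e) = 1 by ring] at this))

theorem IsInv.isLocalRing [IsLocalRing T] (hI : IsInv lam) (h : Ram lam) : IsLocalRing W := by
  haveI := hI.nontrivial
  obtain ⟨m, hm⟩ := Ideal.exists_maximal W
  refine IsLocalRing.of_unique_max_ideal ⟨m, hm, fun m' hm' => ?_⟩
  have hb : bar lam ⟨m, hm⟩ = ⟨m, hm⟩ := MaximalSpectrum.ext (Ideal.ext fun w => by
    have hw := h ⟨m, hm⟩ w
    refine ⟨fun hl => ?_, fun hl => ?_⟩
    · simpa using sub_mem (show lam w ∈ m from hl) hw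
    · show lam w ∈ m
      simpa using add_mem hw (show w ∈ m from hl))
  rcases hI.eq_or_eq_bar ⟨m, hm⟩ ⟨m', hm'⟩ with h' | h'
  · exact congrArg MaximalSpectrum.asIdeal h'
  · exact congrArg MaximalSpectrum.asIdeal (h'.trans hb)

/-- Over a strictly henselian base the involution is either residually trivial or split. -/
theorem IsInv.ram_or_spl [HenselianLocalRing T] [IsSepClosed (IsLocalRing.ResidueField T)]
    (hI : IsInv lam) : Ram lam ∨ Spl lam := by
  classical
  haveI := hI.nontrivial
  haveI := hI.isIntegral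
  haveI := hI.finite_maximal
  obtain ⟨m, hm⟩ := Ideal.exists_maximal W
  let q : MaximalSpectrum W := ⟨m, hm⟩
  have hcomap : m.comap (algebraMap T W) = IsLocalRing.maximalIdeal T :=
    IsLocalRing.eq_maximalIdeal (Ideal.isMaximal_comap_of_isIntegral_of_isMaximal m)
  by_cases hqq : bar lam q = q
  · left
    have key : ∀ w, lam w - w ∈ m := by
      intro w
      by_contra hne
      obtain ⟨b, c, hb, hc⟩ := hI.exists_trace w
      letI := Ideal.Quotient.field m
      let φ : IsLocalRing.ResidueField T →+* W ⧸ m :=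
        Ideal.Quotient.lift _ ((Ideal.Quotient.mk m).comp (algebraMap T W)) fun t ht =>
          Ideal.Quotient.eq_zero_iff_mem.2 (hcomap.ge ht)
      let a := Ideal.Quotient.mk m w
      let a' := Ideal.Quotient.mk m (lam w)
      have haa : a - a' ≠ 0 := fun h => hne (Ideal.Quotient.eq.1 (sub_eq_zero.1 h).symm)
      let g : (IsLocalRing.ResidueField T)[X] :=
        X ^ 2 - C (IsLocalRing.residue T b) * X + C (IsLocalRing.residue T c)
      have hg : g.map φ = (X - C a) * (X - C a') := by
        have e1 : φ (IsLocalRing.residue T b) = a + a' := by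
          show Ideal.Quotient.mk m (algebraMap T W b) = _
          rw [hb, map_add]
        have e2 : φ (IsLocalRing.residue T c) = a * a' := by
          show Ideal.Quotient.mk m (algebraMap T W c) = _
          rw [hc, map_mul]
        simp only [g, Polynomial.map_add, Polynomial.map_sub, Polynomial.map_mul, Polynomial.map_pow,
          map_X, map_C, e1, e2, C_add, C_mul]
        ring
      have hsep : g.Separable := by
        rw [← separable_map φ, hg]
        exact (separable_X_sub_C).mul separable_X_sub_C (isCoprime_X_sub_C_of_isUnit_sub haa.isUnit)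
      have hdeg : g.degree ≠ 0 := by
        rw [← degree_map g φ, hg, degree_mul, degree_X_sub_C, degree_X_sub_C]; decide
      obtain ⟨r, hr⟩ := IsSepClosed.exists_root g hdeg hsep
      obtain ⟨t, rfl⟩ := IsLocalRing.residue_surjective (R := T) r
      have h0 : (g.map φ).eval (φ (IsLocalRing.residue T t)) = 0 := by
        rw [eval_map, eval₂_at_apply, hr.eq_zero, map_zero]
      rw [hg, eval_mul, eval_sub, eval_sub, eval_X, eval_C, eval_C, mul_eq_zero, sub_eq_zero, sub_eq_zero] at h0
      have hswap : ∀ z, z ∈ m → lam z ∈ m := fun z hz => by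
        have : z ∈ (bar lam q).asIdeal := by rw [hqq]; exact hz
        exact this
      apply hne
      rcases h0 with h0 | h0
      · have h1 : algebraMap T W t - w ∈ m := Ideal.Quotient.eq.1 h0
        have h2 := hswap _ h1
        rw [map_sub, AlgEquiv.commutes] at h2
        simpa using sub_mem h1 h2
      · have h1 : algebraMap T W t - lam w ∈ m := Ideal.Quotient.eq.1 h0
        have h2 := hswap _ h1
        rw [map_sub, AlgEquiv.commutes, hI.invol] at h2
        simpa using sub_mem h2 h1
    intro q' w
    rcases hI.eq_or_eq_bar q q' with rfl | rfl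
    · exact key w
    · rw [hqq]; exact key w
  · right
    have hco : m ⊔ (bar lam q).asIdeal = ⊤ := Ideal.IsMaximal.coprime_of_ne hm (bar lam q).isMaximal
      fun h => hqq (MaximalSpectrum.ext h.symm)
    obtain ⟨a, ha, a', ha', hsum⟩ := Submodule.mem_sup.1 (hco ▸ Submodule.mem_top : (1 : W) ∈ _)
    have hmem : a * a - a ∈ J W • (⊤ : Submodule W W) := by
      rw [smul_eq_mul, Ideal.mul_top, mem_J_iff]
      intro q'
      rw [show a * a - a = -(a * a') by linear_combination a * hsum]
      refine neg_mem ?_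
      rcases hI.eq_or_eq_bar q q' with rfl | rfl
      · exact Ideal.mul_mem_right _ _ ha
      · exact Ideal.mul_mem_left _ _ ha'
    obtain ⟨e, he, hea⟩ := exists_idem T a hmem
    rw [smul_eq_mul, Ideal.mul_top, mem_J_iff] at hea
    have heq : e ∈ m := by simpa using add_mem (hea q) ha
    have heb : 1 - e ∈ (bar lam q).asIdeal := by
      have := sub_mem ha' (hea (bar lam q))
      rwa [show a' - (e - a) = 1 - e by linear_combination hsum] at this
    have hle : lam e ∈ (bar lam q).asIdeal := by rw [mem_bar, hI.invol]; exact heq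
    have hle' : 1 - lam e ∈ m := by
      have : lam (1 - e) ∈ m := heb
      rwa [map_sub, map_one] at this
    refine ⟨e, he, ?_⟩
    have hlee : lam e * lam e = lam e := by rw [← map_mul, he]
    have h0 : e * lam e = 0 := Hensel.eq_of_idempotent (J := J W) le_rfl
      (show IsIdempotentElem (e * lam e) from by
        show _ * _ = _
        linear_combination (lam e * lam e) * he + e * hlee) IsIdempotentElem.zero (by
        rw [sub_zero, mem_J_iff]
        intro q'
        rcases hI.eq_or_eq_bar q q' with rfl | rfl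
        · exact Ideal.mul_mem_right _ _ heq
        · exact Ideal.mul_mem_left _ _ hle)
    have h1 : 1 - e - lam e = 0 := Hensel.eq_of_idempotent (J := J W) le_rfl
      (show IsIdempotentElem (1 - e - lam e) from by
        show _ * _ = _
        linear_combination he + hlee + 2 * h0) IsIdempotentElem.zero (by
        rw [sub_zero, mem_J_iff]
        intro q'
        rcases hI.eq_or_eq_bar q q' with rfl | rfl
        · rw [show 1 - e - lam e = (1 - lam e) - e by ring]; exact sub_mem hle' heq
        · exact sub_mem heb hle)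
    linear_combination -h1

end Invol

end Groth.Agent.AzLoc
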