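import Groth.Agent.AzLoc.Tools
import Groth.Agent.AzSign.Basic
import Groth.Agent.Azumaya.Adjoint

/-!
The sign of an involution on the ramification locus.
-/

set_option autoImplicit false
set_option backward.isDefEq.respectTransparency false
noncomputable section

open AzInv (lamTr)
open scoped TensorProduct

universe u v w

namespace Groth.Agent.AzLoc

variable {S : Type u} [CommRing S] {R : Type v} [CommRing R] [Algebra S R] {lam : R ≃ₐ[S] R}

/-- Primes over a prime with trivial residual involution are unique. -/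
theorem eq_of_ramified (hlam : ∀ r, lam (lam r) = r) (hfix : RInv.IsFixedRing S R lam.toRingEquiv)
    {q q' : Ideal R} [q.IsPrime] [q'.IsPrime] (hq : ∀ r, lam r - r ∈ q)
    (h : q'.comap (algebraMap S R) = q.comap (algebraMap S R)) : q' = q := by
  have htr : ∀ x, ∃ c d : S, algebraMap S R c = x * lam x ∧ algebraMap S R d = x + lam x := fun x => by
    obtain ⟨c, hc⟩ := (hfix.2 (x * lam x)).1 (by show lam (x * lam x) = _; rw [map_mul, hlam, mul_comm])
    obtain ⟨d, hd⟩ := (hfix.2 (x + lam x)).1 (by show lam (x + lam x) = _; rw [map_add, hlam, add_comm])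
    exact ⟨c, d, hc, hd⟩
  ext x
  obtain ⟨c, d, hc, hd⟩ := htr x
  refine ⟨fun hx => ?_, fun hx => ?_⟩
  · have h1 : c ∈ q'.comap (algebraMap S R) := by rw [Ideal.mem_comap, hc]; exact Ideal.mul_mem_right _ _ hx
    rw [h, Ideal.mem_comap, hc] at h1
    rcases Ideal.IsPrime.mem_or_mem ‹q.IsPrime› h1 with h2 | h2
    · exact h2
    · simpa using sub_mem h2 (hq x)
  · have hlx : lam x ∈ q := by simpa using add_mem (hq x) hx
    have h1 : c ∈ q.comap (algebraMap S R) := by rw [Ideal.mem_comap, hc]; exact Ideal.mul_mem_right _ _ hx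
    rw [← h, Ideal.mem_comap, hc] at h1
    rcases Ideal.IsPrime.mem_or_mem ‹q'.IsPrime› h1 with h2 | h2
    · exact h2
    · have h3 : d ∈ q.comap (algebraMap S R) := by rw [Ideal.mem_comap, hd]; exact add_mem hx hlx
      rw [← h, Ideal.mem_comap, hd] at h3
      simpa using sub_mem h3 h2

variable {T : Type u} [CommRing T] [HenselianLocalRing T] [Algebra S T] [IsSepClosed (IsLocalRing.ResidueField T)]

/-- The prime of the scalars below a maximal ideal of the base change. -/
def below (m : MaximalSpectrum (T ⊗[S] R)) : PrimeSpectrum R :=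
  ⟨m.asIdeal.comap (Algebra.TensorProduct.includeRight : R →ₐ[S] T ⊗[S] R).toRingHom,
    m.isMaximal.isPrime.comap _⟩

omit [IsSepClosed (IsLocalRing.ResidueField T)] in
theorem below_over (hI : IsInv (lamE T lam)) (m : MaximalSpectrum (T ⊗[S] R)) :
    (below m).asIdeal.comap (algebraMap S R) = (IsLocalRing.maximalIdeal T).comap (algebraMap S T) := by
  haveI := hI.isIntegral
  haveI := m.isMaximal
  rw [← IsLocalRing.eq_maximalIdeal (Ideal.isMaximal_comap_of_isIntegral_of_isMaximal (R := T) m.asIdeal)]
  show (m.asIdeal.comap _).comap _ = (m.asIdeal.comap _).comap _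
  rw [Ideal.comap_comap, Ideal.comap_comap]
  congr 1
  exact ((Algebra.TensorProduct.includeRight : R →ₐ[S] T ⊗[S] R).comp_algebraMap).trans
    (IsScalarTower.algebraMap_eq S T (T ⊗[S] R))

omit [HenselianLocalRing T] [IsSepClosed (IsLocalRing.ResidueField T)] in
/-- Residual triviality gives ramification. -/
theorem ramified_below (hR : Ram (lamE T lam)) (m : MaximalSpectrum (T ⊗[S] R)) (r : R) :
    lam r - r ∈ (below m).asIdeal := by
  show (Algebra.TensorProduct.includeRight : R →ₐ[S] T ⊗[S] R) (lam r - r) ∈ m.asIdeal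
  rw [map_sub]
  exact hR m ((1 : T) ⊗ₜ[S] r)

omit [IsSepClosed (IsLocalRing.ResidueField T)] in
/-- Ramification gives residual triviality. -/
theorem ram_of_ramified (hlam : ∀ r, lam (lam r) = r) (hfix : RInv.IsFixedRing S R lam.toRingEquiv)
    (hI : IsInv (lamE T lam)) {q : PrimeSpectrum R} (hq : ∀ r, lam r - r ∈ q.asIdeal)
    (hqp : q.asIdeal.comap (algebraMap S R) = (IsLocalRing.maximalIdeal T).comap (algebraMap S T)) :
    Ram (lamE T lam) ∧ ∀ m, below (S := S) (T := T) m = q := by
  have hb : ∀ m, below (S := S) (T := T) m = q := fun m => by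
    haveI := (below (S := S) (T := T) m).isPrime
    haveI := q.isPrime
    exact PrimeSpectrum.ext (eq_of_ramified hlam hfix hq ((below_over hI m).trans hqp.symm))
  refine ⟨fun m w => ?_, hb⟩
  induction w using TensorProduct.induction_on with
  | zero => simp
  | add a b ha hb => rw [map_add, add_sub_add_comm]; exact add_mem ha hb
  | tmul e r =>
    have h : lam r - r ∈ (below (S := S) (T := T) m).asIdeal := by rw [hb]; exact hq r
    rw [lamE_tmul, ← TensorProduct.tmul_sub]
    rw [show e ⊗ₜ[S] (lam r - r) = (e ⊗ₜ[S] (1 : R)) * ((1 : T) ⊗ₜ[S] (lam r - r)) by simp]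
    exact Ideal.mul_mem_left _ _ h

variable {A : Type w} [Ring A] [Algebra S A] [Algebra R A] [IsScalarTower S R A]

set_option synthInstance.maxHeartbeats 400000 in
/-- The rank of the symmetric elements at a ramified prime. -/
theorem symRank_eq (h2 : IsUnit (2 : S)) (hI : IsInv (lamE T lam)) (hR : Ram (lamE T lam)) {n : ℕ}
    (hA : AzInv.IsAzumayaDeg R A n) (t : AzInv.LamInv R A lam) {s : T ⊗[S] R}
    (hs : s = 1 ∨ s = -1) (h : Std (lamE T lam) s (Fin n) (bcInv T t)) (m : MaximalSpectrum (T ⊗[S] R)) :
    (s = 1 → AzSign.symRank (⇑lam) t (below m) = (n + 1).choose 2) ∧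
      (s = -1 → AzSign.symRank (⇑lam) t (below m) = n.choose 2) := by
  classical
  haveI := hI.isLocalRing hR
  obtain rfl : m = ⟨_, IsLocalRing.maximalIdeal.isMaximal _⟩ :=
    MaximalSpectrum.ext (IsLocalRing.eq_maximalIdeal m.isMaximal)
  haveI := hA.1
  obtain ⟨θ, u, hu, hus, hτ⟩ := h
  let W := T ⊗[S] R
  let res := IsLocalRing.residue W
  let K := IsLocalRing.ResidueField W
  let q := below (S := S) (T := T) (⟨_, IsLocalRing.maximalIdeal.isMaximal W⟩ : MaximalSpectrum W)
  let k := q.asIdeal.ResidueField
  let fR : R →+* K := res.comp (Algebra.TensorProduct.includeRight : R →ₐ[S] T ⊗[S] R).toRingHom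
  let κ : k →+* K := Ideal.ResidueField.lift q.asIdeal fR
    (fun r hr => RingHom.mem_ker.2 ((IsLocalRing.residue_eq_zero_iff _).2 hr))
    (fun r hr => isUnit_iff_ne_zero.2 fun h0 => hr ((IsLocalRing.residue_eq_zero_iff _).1 h0))
  letI : Algebra R K := fR.toAlgebra
  letI : Algebra k K := κ.toAlgebra
  haveI : IsScalarTower R k K := IsScalarTower.of_algebraMap_eq fun r =>
    (Ideal.ResidueField.lift_algebraMap (I := q.asIdeal) fR _ _ r).symm
  let g : A →ₗ[R] Matrix (Fin n) (Fin n) K :=
    { toFun := fun a => (θ ((1 : T) ⊗ₜ[S] a)).map res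
      map_add' := fun a b => by
        rw [TensorProduct.tmul_add, map_add]; exact Matrix.map_add _ (map_add res) _ _
      map_smul' := fun r a => by
        rw [RingHom.id_apply, ← scal_one_mul_tmul r (1 : T) a, ← bc_smul_def, map_smul]
        ext i j
        simp only [Matrix.map_apply, Matrix.smul_apply, smul_eq_mul, map_mul]
        exact (Algebra.smul_def r _).symm }
  have hgdef : ∀ a, g a = (θ ((1 : T) ⊗ₜ[S] a)).map res := fun a => rfl
  let G : k ⊗[R] A →ₗ[k] Matrix (Fin n) (Fin n) K := g.liftBaseChange k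
  let GK : K ⊗[k] (k ⊗[R] A) →ₗ[K] Matrix (Fin n) (Fin n) K := G.liftBaseChange K
  have hGK : ∀ a, GK ((1 : K) ⊗ₜ[k] ((1 : k) ⊗ₜ[R] a)) = g a := fun a => by
    simp [GK, G]
  have hsmul : ∀ (e : T) (a : A), (θ (e ⊗ₜ[S] a)).map res = res (algebraMap T W e) • g a := fun e a => by
    rw [show e ⊗ₜ[S] a = algebraMap T W e • ((1 : T) ⊗ₜ[S] a) by
      rw [algebraMap_smul, TensorProduct.smul_tmul', smul_eq_mul, mul_one], map_smul]
    ext i j
    simp only [hgdef, Matrix.map_apply, Matrix.smul_apply, smul_eq_mul, map_mul]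
  have hspan : ∀ b : T ⊗[S] A, (θ b).map res ∈ LinearMap.range GK := fun b => by
    induction b using TensorProduct.induction_on with
    | zero => simp
    | add a b ha hb => rw [map_add, Matrix.map_add _ (map_add res)]; exact add_mem ha hb
    | tmul e a => rw [hsmul]; exact Submodule.smul_mem _ _ ⟨_, hGK a⟩
  have hsurj : Function.Surjective GK := fun X => by
    choose Y hY using fun i j => IsLocalRing.residue_surjective (R := W) (X i j)
    obtain ⟨b, hb⟩ := θ.surjective (Matrix.of Y)
    obtain ⟨z, hz⟩ := hspan b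
    exact ⟨z, hz.trans (by rw [hb]; ext i j; exact hY i j)⟩
  have hdim : Module.finrank k (k ⊗[R] A) = n ^ 2 := by
    have h1 := Module.rankAtStalk_eq (R := R) (M := A) q
    rw [hA.2 q] at h1
    exact h1.symm
  have hinj : Function.Injective GK := by
    refine (LinearMap.injective_iff_surjective_of_finrank_eq_finrank ?_).2 hsurj
    rw [Module.finrank_baseChange, hdim, Module.finrank_matrix, Module.finrank_self, mul_one,
      Fintype.card_fin, sq]
  let N : Submodule k (k ⊗[R] A) := Submodule.span k
    (Set.range fun a : {a : A // t a = a} => (1 : k) ⊗ₜ[R] (a : A))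
  let P : Submodule K (Matrix (Fin n) (Fin n) K) := Submodule.span K (g '' {a | t a = a})
  have hP : LinearMap.range (GK ∘ₗ N.subtype.baseChange K) = P := by
    refine le_antisymm ?_ (Submodule.span_le.2 ?_)
    · rintro _ ⟨z, rfl⟩
      induction z using TensorProduct.induction_on with
      | zero => simp
      | add a b ha hb => rw [map_add]; exact add_mem ha hb
      | tmul c x =>
        rw [LinearMap.comp_apply, LinearMap.baseChange_tmul, LinearMap.liftBaseChange_tmul]
        refine P.smul_mem c ?_
        obtain ⟨x, hx⟩ := x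
        show G x ∈ P
        induction hx using Submodule.span_induction with
        | mem y hy =>
          obtain ⟨⟨a, ha⟩, rfl⟩ := hy
          exact Submodule.subset_span ⟨a, ha, by simp [G]⟩
        | zero => simp
        | add y z _ _ hy hz => rw [map_add]; exact add_mem hy hz
        | smul c y _ hy => rw [map_smul, ← algebraMap_smul K c (G y)]; exact P.smul_mem _ hy
    · rintro _ ⟨a, ha, rfl⟩
      exact ⟨(1 : K) ⊗ₜ[k] ⟨(1 : k) ⊗ₜ[R] a, Submodule.subset_span ⟨⟨a, ha⟩, rfl⟩⟩,
        by rw [LinearMap.comp_apply, LinearMap.baseChange_tmul, Submodule.subtype_apply, hGK]⟩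
  have hrank : AzSign.symRank (⇑lam) t q = Module.finrank K P := by
    rw [← hP, LinearMap.finrank_range_of_inj (Function.Injective.comp (g := ⇑GK) (f := ⇑(N.subtype.baseChange K)) hinj
      (show Function.Injective (N.subtype.baseChange K) from
        Module.Flat.lTensor_preserves_injective_linearMap (M := K) N.subtype N.injective_subtype)),
      Module.finrank_baseChange]
    rfl
  -- the symmetric elements of the residual matrix algebra
  set U := u.map res with hUdef
  have hU : IsUnit U := hu.map res.mapMatrix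
  have hresl : ∀ X : Matrix (Fin n) (Fin n) W, (lamTr (lamE T lam) X).map res = (X.map res).transpose :=
    fun X => residue_lamTr hR X
  have hmm : ∀ X Y : Matrix (Fin n) (Fin n) W, (X * Y).map res = X.map res * Y.map res :=
    fun X Y => map_mul res.mapMatrix X Y
  have hUt : U.transpose = res s • U := by
    rw [hUdef, ← hresl, hus]
    ext i j
    simp
  have h2' : IsUnit (2 : W) := isUnit_two_bc T h2
  have h2K : (2 : K) ≠ 0 := by simpa [map_ofNat] using (h2'.map res).ne_zero
  obtain ⟨half, hhalf⟩ := h2.exists_left_inv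
  let V : Submodule K (Matrix (Fin n) (Fin n) K) :=
    LinearMap.ker (LinearMap.mulRight K U - LinearMap.mulLeft K U ∘ₗ Azumaya.transp K n)
  have hV : ∀ X, X ∈ V ↔ X * U = U * X.transpose := fun X => by
    rw [LinearMap.mem_ker]; exact sub_eq_zero
  have hPV : P = V := by
    refine le_antisymm (Submodule.span_le.2 ?_) fun X hX => ?_
    · rintro _ ⟨a, ha, rfl⟩
      rw [SetLike.mem_coe, hV]
      have h1 := congrArg (fun M => M.map res) (hτ ((1 : T) ⊗ₜ[S] a))
      simp only [bcInv_apply, AzInv.LamInv.bc_tmul, show t a = a from ha] at h1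
      rw [hmm, hmm, hresl] at h1
      exact h1
    · choose Y hY using fun i j => IsLocalRing.residue_surjective (R := W) (X i j)
      obtain ⟨b, hb⟩ := θ.surjective (Matrix.of Y)
      have hbX : (θ b).map res = X := by rw [hb]; ext i j; exact hY i j
      have key : ∀ b : T ⊗[S] A, (θ b + θ (bcInv T t b)).map res ∈ P := fun b => by
        induction b using TensorProduct.induction_on with
        | zero => simp
        | add a b ha hb =>
          rw [map_add, AzInv.LamInv.map_add, map_add, add_add_add_comm, Matrix.map_add _ (map_add res)]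
          exact add_mem ha hb
        | tmul e a =>
          rw [← map_add, bcInv_apply, AzInv.LamInv.bc_tmul, ← TensorProduct.tmul_add, hsmul]
          refine P.smul_mem _ (Submodule.subset_span ⟨a + t a, ?_, rfl⟩)
          show t (a + t a) = a + t a
          rw [t.map_add, t.invol, add_comm]
      have h1 : (θ (bcInv T t b)).map res = X := by
        have h2 := congrArg (fun M => M.map res) (hτ b)
        rw [hmm, hmm, hresl] at h2
        rw [hbX, ← (hV X).1 hX] at h2
        exact hU.mul_right_cancel h2
      have h3 := key b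
      rw [Matrix.map_add _ (map_add res), hbX, h1] at h3
      have h4 := P.smul_mem ((2 : K)⁻¹) h3
      rwa [← two_smul K, inv_smul_smul₀ h2K] at h4
  obtain ⟨Ui, hUi⟩ := hU
  let rU : Matrix (Fin n) (Fin n) K ≃ₗ[K] Matrix (Fin n) (Fin n) K :=
    { LinearMap.mulRight K U with
      invFun := fun X => X * (↑Ui⁻¹ : Matrix (Fin n) (Fin n) K)
      left_inv := fun X => by simp [← hUi, mul_assoc]
      right_inv := fun X => by simp [← hUi, mul_assoc] }
  have hmap : ∀ (c : K) (L : Matrix (Fin n) (Fin n) K →ₗ[K] Matrix (Fin n) (Fin n) K),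
      (∀ Y, L Y = 0 ↔ Y.transpose = c • Y) → res s = c → c ≠ 0 →
      Module.finrank K V = Module.finrank K (LinearMap.ker L) := by
    intro c L hL hc hc0
    suffices heq : Submodule.map (rU : Matrix (Fin n) (Fin n) K →ₗ[K] Matrix (Fin n) (Fin n) K) V = LinearMap.ker L by
      rw [← LinearEquiv.finrank_map_eq rU V, heq]
    ext Y
    rw [Submodule.mem_map, LinearMap.mem_ker, hL]
    refine ⟨?_, fun hY => ⟨rU.symm Y, (hV _).2 ?_, rU.apply_symm_apply Y⟩⟩
    · rintro ⟨X, hX, rfl⟩
      show (X * U).transpose = c • (X * U)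
      rw [Matrix.transpose_mul, hUt, hc, smul_mul_assoc, ← (hV X).1 hX]
    · have h1 : (rU.symm Y) * U = Y := rU.apply_symm_apply Y
      rw [← h1, Matrix.transpose_mul, hUt, hc, smul_mul_assoc] at hY
      exact ((smul_right_injective _ hc0) hY).symm
  refine ⟨fun h1 => ?_, fun h1 => ?_⟩
  · rw [hrank, hPV, hmap 1 (Azumaya.transp K n - LinearMap.id)
      (fun Y => by rw [one_smul]; exact sub_eq_zero) (by rw [h1, map_one]) one_ne_zero,
      Azumaya.finrank_symm]
  · rw [hrank, hPV, hmap (-1) (Azumaya.transp K n + LinearMap.id)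
      (fun Y => by rw [neg_one_smul]; exact add_eq_zero_iff_eq_neg) (by rw [h1, map_neg, map_one]) (by simp),
      Azumaya.finrank_skew K n h2K]

end Groth.Agent.AzLoc

namespace Groth.Agent.AzLoc

universe u' v' w''

variable {S : Type u'} [CommRing S] {R : Type v'} [CommRing R] [Algebra S R] {lam : R ≃ₐ[S] R}
  {A : Type w''} [Ring A] [Algebra S A] [Algebra R A] [IsScalarTower S R A]
  {T : Type u'} [CommRing T] [HenselianLocalRing T] [Algebra S T] [IsSepClosed (IsLocalRing.ResidueField T)]

/-- Orthogonality at a ramified prime is the sign `1`. -/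
theorem orth_iff (h2 : IsUnit (2 : S)) (hI : IsInv (lamE T lam)) (hR : Ram (lamE T lam)) {n : ℕ} (hn : 0 < n)
    (hA : AzInv.IsAzumayaDeg R A n) (t : AzInv.LamInv R A lam) {s : T ⊗[S] R}
    (hs : s = 1 ∨ s = -1) (h : Std (lamE T lam) s (Fin n) (bcInv T t)) (m : MaximalSpectrum (T ⊗[S] R)) :
    AzSign.symRank (⇑lam) t (below m) = (n + 1).choose 2 ↔ s = 1 := by
  obtain ⟨h1, hm1⟩ := symRank_eq h2 hI hR hA t hs h m
  refine ⟨fun he => hs.resolve_right fun hneg => ?_, h1⟩
  rw [hm1 hneg, show (2 : ℕ) = Nat.succ 1 from rfl, Nat.choose_succ_succ, Nat.choose_one_right] at he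
  omega

/-- Signs are equal exactly when both are orthogonal or neither is. -/
theorem eq_of_sign_iff {W : Type*} [CommRing W] {s s' : W} (hs : s = 1 ∨ s = -1) (hs' : s' = 1 ∨ s' = -1)
    (h : s = 1 ↔ s' = 1) : s = s' := by
  by_cases h1 : s = 1
  · rw [h1, h.1 h1]
  · rw [hs.resolve_left h1, hs'.resolve_left (mt h.2 h1)]

theorem SignOK.sign {n : ℕ} {s : T ⊗[S] R} (h : SignOK n s) : s = 1 ∨ s = -1 :=
  h.imp And.left And.left

omit [IsSepClosed (IsLocalRing.ResidueField T)] [HenselianLocalRing T] in
theorem neg_tmul_one : (1 : T) ⊗ₜ[S] (-1 : R) = -1 := by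
  rw [TensorProduct.tmul_neg]; rfl

/-- If a prime is not ramified then the algebra is quadratic étale at the prime below. -/
theorem quad_of_unramified (hlam : ∀ r, lam (lam r) = r) (hfix : RInv.IsFixedRing S R lam.toRingEquiv)
    (q : PrimeSpectrum R) {r : R} (hr : lam r - r ∉ q.asIdeal) (p : PrimeSpectrum S)
    (hp : p.asIdeal = q.asIdeal.comap (algebraMap S R)) :
    RInv.IsQuadEtale (Localization.AtPrime p.asIdeal) (Localization.AtPrime p.asIdeal ⊗[S] R) := by
  let L := Localization.AtPrime p.asIdeal
  obtain ⟨D, hD⟩ := (hfix.2 ((lam r - r) * (lam r - r))).1 (by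
    show lam _ = _
    rw [map_mul, map_sub, hlam]; ring)
  have hDp : D ∉ p.asIdeal := by
    rw [hp, Ideal.mem_comap, hD]
    exact fun h => hr ((q.isPrime.mem_or_mem h).elim id id)
  have hI : IsInv (lamE L lam) := isInv_lamE hlam hfix
  obtain ⟨Dinv, hDinv⟩ := (IsLocalization.map_units L (⟨D, hDp⟩ : p.asIdeal.primeCompl)).exists_left_inv
  let W := L ⊗[S] R
  let x : W := (1 : L) ⊗ₜ[S] r
  set δ : W := lamE L lam x - x with hδ
  have hδD : δ * δ = algebraMap L W (algebraMap S L D) := by
    rw [hδ, ← IsScalarTower.algebraMap_apply S L W,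
      show algebraMap S W D = (Algebra.TensorProduct.includeRight : R →ₐ[S] W) (algebraMap S R D) from
        ((Algebra.TensorProduct.includeRight : R →ₐ[S] W).commutes D).symm, hD, map_mul, map_sub]
    rfl
  have hDD : algebraMap L W Dinv * algebraMap L W (algebraMap S L D) = 1 := by
    rw [← map_mul, hDinv, map_one]
  have hlδ : lamE L lam δ = -δ := by rw [hδ, map_sub, hI.invol, neg_sub]
  have hexp : ∀ z : W, ∃ a b : L, a • (1 : W) + b • x = z := by
    intro z
    obtain ⟨b, hb⟩ := hI.fixed ((lamE L lam z - z) * δ * algebraMap L W Dinv) (by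
      rw [map_mul, map_mul, AlgEquiv.commutes, map_sub, hI.invol, hlδ]; ring)
    obtain ⟨a, ha⟩ := hI.fixed (z - algebraMap L W b * x) (by
      rw [map_sub, map_mul, AlgEquiv.commutes,
        show lamE L lam x = δ + x by rw [hδ, sub_add_cancel]]
      have h1 : algebraMap L W b * δ = lamE L lam z - z := by
        rw [hb]
        linear_combination ((lamE L lam z - z) * algebraMap L W Dinv) * hδD + (lamE L lam z - z) * hDD
      linear_combination -h1)
    exact ⟨a, b, by rw [← Algebra.algebraMap_eq_smul_one, ha, show b • x = algebraMap L W b * x from Algebra.smul_def b x, sub_add_cancel]⟩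
  let Φ : (L × L) →ₗ[L] W := (LinearMap.toSpanSingleton L W 1).coprod (LinearMap.toSpanSingleton L W x)
  have hΦ : Function.Bijective Φ := by
    refine ⟨(injective_iff_map_eq_zero Φ).2 fun ⟨a, b⟩ h => ?_, fun z => ?_⟩
    · simp only [Φ, LinearMap.coprod_apply, LinearMap.toSpanSingleton_apply] at h
      have h' := congrArg (lamE L lam) h
      rw [map_add, map_smul, map_smul, map_one, map_zero, show lamE L lam x = δ + x by rw [hδ, sub_add_cancel],
        smul_add, ← add_assoc, add_right_comm, h, zero_add, Algebra.smul_def] at h'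
      have hb : algebraMap L W b = 0 := by
        linear_combination (δ * algebraMap L W Dinv) * h' - (algebraMap L W b * algebraMap L W Dinv) * hδD
          - algebraMap L W b * hDD
      have hb0 : b = 0 := hI.inj (by rw [hb, map_zero])
      subst hb0
      rw [zero_smul, add_zero, ← Algebra.algebraMap_eq_smul_one] at h
      have ha0 : a = 0 := hI.inj (by rw [h, map_zero])
      subst ha0
      rfl
    · obtain ⟨a, b, h⟩ := hexp z
      exact ⟨(a, b), h⟩
  let e := LinearEquiv.ofBijective Φ hΦ
  haveI : Module.Free L W := Module.Free.of_equiv e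
  haveI : Module.Finite L W := Module.Finite.equiv e
  refine ⟨inferInstance, inferInstance, ⟨?_⟩, fun P => ?_⟩
  · have hd : KaehlerDifferential.D L W x = 0 := by
      obtain ⟨b, c, hb, hc⟩ := hI.exists_trace x
      have h0 : x * x - algebraMap L W b * x + algebraMap L W c = 0 := by rw [hb, hc]; ring
      have h1 := congrArg (KaehlerDifferential.D L W) h0
      simp only [map_add, map_sub, map_zero, Derivation.leibniz, Derivation.map_algebraMap, smul_zero, add_zero] at h1
      rw [← add_smul, ← sub_smul, hb, show x + x - (x + lamE L lam x) = -δ by rw [hδ]; ring] at h1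
      have h2 := congrArg ((-(δ * algebraMap L W Dinv)) • ·) h1
      simp only [smul_smul, smul_zero] at h2
      rwa [show -(δ * algebraMap L W Dinv) * -δ = 1 by
        linear_combination (algebraMap L W Dinv) * hδD + hDD, one_smul] at h2
    have hall : ∀ z : W, KaehlerDifferential.D L W z = 0 := fun z => by
      obtain ⟨a, b, rfl⟩ := hexp z
      rw [map_add, Derivation.map_smul, Derivation.map_smul, Derivation.map_one_eq_zero, hd, smul_zero, smul_zero,
        add_zero]
    refine subsingleton_of_forall_eq 0 fun z => ?_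
    have hz : z ∈ Submodule.span W (Set.range (KaehlerDifferential.D L W)) := by
      rw [KaehlerDifferential.span_range_derivation]; trivial
    induction hz using Submodule.span_induction with
    | mem y hy => obtain ⟨y, rfl⟩ := hy; exact hall y
    | zero => rfl
    | add y z _ _ hy hz => rw [hy, hz, add_zero]
    | smul c y _ hy => rw [hy, smul_zero]
  · rw [Module.rankAtStalk_eq_finrank_of_free, Pi.natCast_apply, Nat.cast_id, ← e.finrank_eq,
      Module.finrank_prod, Module.finrank_self]

/-- Residual triviality for the trivial involution. -/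
theorem lamE_refl (x : T ⊗[S] R) : lamE T (AlgEquiv.refl : R ≃ₐ[S] R) x = x := by
  induction x using TensorProduct.induction_on with
  | zero => simp
  | add a b ha hb => rw [map_add, ha, hb]
  | tmul e r => rfl

end Groth.Agent.AzLoc
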