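import Groth.Agent.AzLoc.Semi
import Groth.Agent.Azumaya.Fibre
import Groth.Agent.Azumaya.CSA
import Mathlib.RingTheory.Spectrum.Prime.FreeLocus
import Mathlib.LinearAlgebra.TensorProduct.Quotient
import Mathlib.LinearAlgebra.Matrix.ToLin
import Mathlib.LinearAlgebra.Matrix.NonsingularInverse

/-!
Azumaya algebras over semilocal algebras integral over a strictly henselian ring are matrix algebras.
-/

set_option autoImplicit false
set_option backward.isDefEq.respectTransparency false

open scoped TensorProduct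

universe u x y

namespace Groth.Agent.AzLoc

section Fibre

variable {W : Type x} [CommRing W] (B : Type y) [Ring B] [Algebra W B] [IsAzumaya W B]

/-- The fibre at a maximal ideal with separably closed residue field is a matrix algebra. -/
theorem exists_fibre (q : Ideal W) [q.IsMaximal] (hsep : @IsSepClosed (W ⧸ q) (Ideal.Quotient.field q))
    {n : ℕ} (hrank : ∀ p : PrimeSpectrum W, Module.rankAtStalk (R := W) B p = n ^ 2) :
    ∃ ψ : B →ₐ[W] Matrix (Fin n) (Fin n) (W ⧸ q), Function.Surjective ψ ∧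
      ∀ b, ψ b = 0 ↔ b ∈ q • (⊤ : Submodule W B) := by
  letI := Ideal.Quotient.field q
  haveI := hsep
  haveI := Azumaya.isAzumaya_baseChange (R := W) (W ⧸ q) B
  obtain ⟨hc, hs⟩ := Azumaya.csa_of_isAzumaya (W ⧸ q) ((W ⧸ q) ⊗[W] B)
  haveI := hc
  haveI := hs
  obtain ⟨m, -, ⟨e⟩⟩ := Azumaya.matrix_of_isSepClosed (W ⧸ q) ((W ⧸ q) ⊗[W] B)
  have hm : m = n := by
    have h1 : Module.finrank (W ⧸ q) ((W ⧸ q) ⊗[W] B) = m * m := by
      rw [e.toLinearEquiv.finrank_eq, Module.finrank_matrix]
      simp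
    have h2 := Module.rankAtStalk_baseChange (R := W) (M := B) (S := W ⧸ q) ⟨⊥, Ideal.isPrime_bot⟩
    rw [hrank, Module.rankAtStalk_eq_finrank_of_free, Pi.natCast_apply, Nat.cast_id, h1, ← sq] at h2
    exact Nat.pow_left_injective two_ne_zero h2
  subst hm
  let ι : B →ₐ[W] (W ⧸ q) ⊗[W] B := Algebra.TensorProduct.includeRight
  have hι : Function.Surjective ι := fun z => by
    induction z using TensorProduct.induction_on with
    | zero => exact ⟨0, map_zero _⟩
    | tmul r b =>
      obtain ⟨w, rfl⟩ := Ideal.Quotient.mk_surjective r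
      refine ⟨w • b, ?_⟩
      show (1 : W ⧸ q) ⊗ₜ[W] (w • b) = _
      rw [← TensorProduct.smul_tmul, Algebra.smul_def, mul_one]
      rfl
    | add a b ha hb =>
      obtain ⟨a', rfl⟩ := ha
      obtain ⟨b', rfl⟩ := hb
      exact ⟨a' + b', map_add _ _ _⟩
  refine ⟨(e.toAlgHom.restrictScalars W).comp ι, e.surjective.comp hι, fun b => ?_⟩
  show e (ι b) = 0 ↔ _
  rw [map_eq_zero_iff e e.injective, ← Submodule.Quotient.mk_eq_zero,
    ← map_eq_zero_iff (TensorProduct.quotTensorEquivQuotSMul B q) (LinearEquiv.injective _)]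
  show TensorProduct.quotTensorEquivQuotSMul B q (Ideal.Quotient.mk q 1 ⊗ₜ[W] b) = 0 ↔ _
  rw [TensorProduct.quotTensorEquivQuotSMul_mk_tmul, one_smul]

end Fibre

variable (T : Type u) [CommRing T] [HenselianLocalRing T] [IsSepClosed (IsLocalRing.ResidueField T)]
  {W : Type x} [CommRing W] [Algebra T W] [Algebra.IsIntegral T W] [Finite (MaximalSpectrum W)]

include T in
/-- Azumaya algebras of rank `n ^ 2` are matrix algebras. -/
theorem exists_matrixIso (B : Type y) [Ring B] [Algebra W B] [IsAzumaya W B] {n : ℕ} (hn : 0 < n)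
    (hrank : ∀ p : PrimeSpectrum W, Module.rankAtStalk (R := W) B p = n ^ 2) :
    Nonempty (B ≃ₐ[W] Matrix (Fin n) (Fin n) W) := by
  classical
  let k₀ : Fin n := ⟨0, hn⟩
  choose ψ hψs hψk using fun q : MaximalSpectrum W =>
    haveI := q.isMaximal
    exists_fibre B q.asIdeal (isSepClosed_residue T q.asIdeal) hrank
  have hJ : ∀ {b : B}, (∀ q, ψ q b = 0) → b ∈ J W • (⊤ : Submodule W B) := fun h =>
    mem_J_smul_of_forall fun q => (hψk q _).1 (h q)
  have hJ' : ∀ {b : B}, b ∈ J W • (⊤ : Submodule W B) → ∀ q, ψ q b = 0 := fun hb q =>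
    (hψk q _).2 (Submodule.smul_mono (fun w hw => mem_J_iff.1 hw q) le_rfl hb)
  have hlift : ∀ M : ∀ q : MaximalSpectrum W, Matrix (Fin n) (Fin n) (W ⧸ q.asIdeal),
      ∃ b : B, ∀ q, ψ q b = M q := by
    intro M
    choose g hg using fun q => hψs q (M q)
    obtain ⟨b, hb⟩ := exists_glue_module g
    refine ⟨b, fun q => ?_⟩
    have := (hψk q _).2 (hb q)
    rwa [map_sub, hg, sub_eq_zero] at this
  have hgluev : ∀ M : ∀ q : MaximalSpectrum W, Fin n → W ⧸ q.asIdeal,
      ∃ z : Fin n → W, ∀ q i, Ideal.Quotient.mk q.asIdeal (z i) = M q i := by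
    intro M
    choose g hg using fun (q : MaximalSpectrum W) i => Ideal.Quotient.mk_surjective (M q i)
    choose z hz using fun i => exists_glue fun q => g q i
    exact ⟨z, fun q i => (Ideal.Quotient.eq.2 (hz i q)).trans (hg q i)⟩
  -- a lifted rank one idempotent and the lifts of the first column
  obtain ⟨a, ha⟩ := hlift fun q => Matrix.single k₀ k₀ 1
  obtain ⟨f, hf, hfa⟩ := exists_idem T a (hJ fun q => by simp [ha])
  have hψf : ∀ q, ψ q f = Matrix.single k₀ k₀ 1 := fun q => by
    rw [← ha q, ← sub_eq_zero, ← map_sub]; exact hJ' hfa q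
  choose c hc using fun i : Fin n => hlift fun q => Matrix.single i k₀ 1
  let P : Submodule W B := LinearMap.range (LinearMap.mulRight W f)
  have hP : ∀ p : P, (p : B) * f = p := fun ⟨_, b, rfl⟩ => by
    show b * f * f = b * f
    rw [mul_assoc, hf]
  let π : B →ₗ[W] P := (LinearMap.mulRight W f).rangeRestrict
  have hπ : π ∘ₗ P.subtype = LinearMap.id := LinearMap.ext fun p => Subtype.ext (hP p)
  haveI : Module.Projective W P := Module.Projective.of_split P.subtype π hπ
  haveI : Module.Finite W P := Module.Finite.of_surjective π (LinearMap.surjective_rangeRestrict _)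
  let v : (Fin n → W) →ₗ[W] P := ∑ i, (LinearMap.proj i).smulRight (π (c i))
  have hv : ∀ z, (v z : B) = ∑ i, z i • (c i * f) := fun z => by
    simp [v, π, LinearMap.sum_apply]
    rfl
  have hψv : ∀ q z, ψ q (v z) =
      Matrix.of fun i j => if j = k₀ then Ideal.Quotient.mk q.asIdeal (z i) else 0 := by
    intro q z
    ext i j
    simp only [hv, map_sum, map_smul, map_mul, hc, hψf, Matrix.single_mul_single_same, mul_one,
      Matrix.sum_apply, Matrix.smul_apply, Matrix.of_apply]
    rw [Finset.sum_eq_single i (fun l _ hl => by simp [hl]) (by simp)]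
    rcases eq_or_ne j k₀ with rfl | hj
    · simp [Algebra.smul_def]
    · simp [hj, Ne.symm hj]
  have hbij : Function.Bijective v := by
    refine bijective_of_mod v (fun p => ?_) (fun z hz => ?_)
    · obtain ⟨z, hz⟩ := hgluev fun q i => ψ q p i k₀
      refine ⟨z, ?_⟩
      have h : ((p - v z : P) : B) ∈ J W • (⊤ : Submodule W B) := hJ fun q => by
        rw [Submodule.coe_sub, map_sub, hψv, sub_eq_zero, ← hP p, map_mul, hψf]
        ext i j
        rcases eq_or_ne j k₀ with rfl | hj
        · rw [Matrix.of_apply, if_pos rfl, hz, Matrix.mul_single_apply_same, mul_one,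
            ← hP p, map_mul, hψf, Matrix.mul_single_apply_same, mul_one]
        · rw [Matrix.of_apply, if_neg hj, Matrix.mul_single_apply_of_ne _ _ _ _ _ hj]
      have h' := Submodule.mem_map_of_mem (f := π) h
      rw [Submodule.map_smul'', show π ((p - v z : P) : B) = p - v z from LinearMap.congr_fun hπ (p - v z)] at h'
      exact Submodule.smul_mono le_rfl le_top h'
    · have hB : (v z : B) ∈ J W • (⊤ : Submodule W B) := by
        have h' := Submodule.mem_map_of_mem (f := P.subtype) hz
        rw [Submodule.map_smul''] at h'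
        exact Submodule.smul_mono le_rfl le_top h'
      rw [show z = ∑ i, z i • (Pi.single i 1 : Fin n → W) from (pi_eq_sum_univ' z)]
      refine sum_mem fun i _ => Submodule.smul_mem_smul (mem_J_iff.2 fun q => ?_) trivial
      have h := hJ' hB q
      rw [hψv] at h
      have h0 := congrFun (congrFun h i) k₀
      rw [Matrix.of_apply, if_pos rfl] at h0
      exact Ideal.Quotient.eq_zero_iff_mem.1 h0
  let ε : (Fin n → W) ≃ₗ[W] P := LinearEquiv.ofBijective v hbij
  -- the left regular representation on `P`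
  let μ : B → P →ₗ[W] P := fun b => π ∘ₗ LinearMap.mulLeft W b ∘ₗ P.subtype
  have hμ : ∀ b (p : P), ((μ b p : P) : B) = b * p := fun b p => by
    show b * p * f = b * p
    rw [mul_assoc, hP]
  let ρ : B →ₐ[W] Module.End W (Fin n → W) := AlgHom.ofLinearMap
    { toFun := fun b => ε.symm.toLinearMap ∘ₗ μ b ∘ₗ ε.toLinearMap
      map_add' := fun b b' => LinearMap.ext fun z => by
        simp only [LinearMap.comp_apply, LinearEquiv.coe_coe, LinearMap.add_apply, ← map_add]
        congr 1
        exact Subtype.ext (by simp [hμ, add_mul])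
      map_smul' := fun r b => LinearMap.ext fun z => by
        simp only [LinearMap.comp_apply, LinearEquiv.coe_coe, LinearMap.smul_apply, RingHom.id_apply, ← map_smul]
        congr 1
        exact Subtype.ext (by simp [hμ]) }
    (LinearMap.ext fun z => ε.injective <| Subtype.ext <| by simp [hμ])
    (fun b b' => LinearMap.ext fun z => ε.injective <| Subtype.ext <| by simp [hμ, mul_assoc])
  let Θ : B →ₐ[W] Matrix (Fin n) (Fin n) W := (LinearMap.toMatrixAlgEquiv' : _ ≃ₐ[W] _).toAlgHom.comp ρ
  have hΘ : ∀ b q i j, Ideal.Quotient.mk q.asIdeal (Θ b i j) = ψ q b i j := by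
    intro b q i j
    have h1 : (v (ρ b (Pi.single j 1)) : B) = b * (v (Pi.single j 1) : B) := by
      show ((ε (ε.symm (μ b (ε (Pi.single j 1))))) : B) = _
      rw [LinearEquiv.apply_symm_apply, hμ]
      rfl
    have h2 := congrFun (congrFun (congrArg (ψ q) h1) i) k₀
    rw [map_mul, hψv, hψv, Matrix.of_apply, if_pos rfl, Matrix.mul_apply,
      Finset.sum_eq_single j (fun l _ hl => by simp [hl]) (by simp)] at h2
    simpa [Θ, LinearMap.toMatrixAlgEquiv'_apply] using h2
  refine ⟨AlgEquiv.ofBijective Θ (bijective_of_mod Θ.toLinearMap (fun M => ?_) (fun b hb => ?_))⟩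
  · obtain ⟨b, hb⟩ := hlift fun q => M.map (Ideal.Quotient.mk q.asIdeal)
    refine ⟨b, ?_⟩
    rw [Matrix.matrix_eq_sum_single (M - Θ.toLinearMap b)]
    refine sum_mem fun i _ => sum_mem fun j _ => ?_
    rw [← mul_one ((M - Θ.toLinearMap b) i j), ← smul_eq_mul, ← Matrix.smul_single]
    refine Submodule.smul_mem_smul (mem_J_iff.2 fun q => ?_) trivial
    rw [Matrix.sub_apply, ← Ideal.Quotient.eq_zero_iff_mem, map_sub, AlgHom.toLinearMap_apply, hΘ, hb,
      Matrix.map_apply, sub_self]
  · refine hJ fun q => ?_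
    ext i j
    have h : Θ b i j ∈ J W := by
      have h' := Submodule.mem_map_of_mem
        (f := (LinearMap.proj j : (Fin n → W) →ₗ[W] W) ∘ₗ (LinearMap.proj i : Matrix (Fin n) (Fin n) W →ₗ[W] Fin n → W)) hb
      rw [Submodule.map_smul''] at h'
      have h'' := Submodule.smul_mono le_rfl le_top h'
      rwa [smul_eq_mul, Ideal.mul_top] at h''
    rw [← hΘ, Ideal.Quotient.eq_zero_iff_mem.2 (mem_J_iff.1 h q)]
    rfl

variable {n : ℕ}

omit T in
/-- Automorphisms of a matrix algebra over a semilocal ring are inner. -/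
theorem exists_conj {W : Type x} [CommRing W] [Finite (MaximalSpectrum W)]
    (σ : Matrix (Fin n) (Fin n) W ≃ₐ[W] Matrix (Fin n) (Fin n) W) :
    ∃ g : (Matrix (Fin n) (Fin n) W)ˣ, ∀ X, σ X * g = g * X := by
  classical
  rcases Nat.eq_zero_or_pos n with rfl | hn
  · exact ⟨1, fun X => Subsingleton.elim _ _⟩
  let k₀ : Fin n := ⟨0, hn⟩
  have hex : ∀ q : MaximalSpectrum W, ∃ i j, σ (Matrix.single k₀ k₀ 1) i j ∉ q.asIdeal := by
    intro q
    by_contra h
    push Not at h
    have h1 : σ (Matrix.single k₀ k₀ 1) ∈ q.asIdeal • (⊤ : Submodule W (Matrix (Fin n) (Fin n) W)) := by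
      rw [Matrix.matrix_eq_sum_single (σ (Matrix.single k₀ k₀ 1))]
      refine sum_mem fun i _ => sum_mem fun j _ => ?_
      rw [← mul_one (σ (Matrix.single k₀ k₀ 1) i j), ← smul_eq_mul, ← Matrix.smul_single]
      exact Submodule.smul_mem_smul (h i j) trivial
    have h2 := Submodule.mem_map_of_mem
      (f := (LinearMap.proj k₀ : (Fin n → W) →ₗ[W] W) ∘ₗ (LinearMap.proj k₀ : Matrix (Fin n) (Fin n) W →ₗ[W] Fin n → W) ∘ₗ
        σ.symm.toLinearMap) h1
    rw [Submodule.map_smul''] at h2
    have h3 := Submodule.smul_mono le_rfl le_top h2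
    rw [smul_eq_mul, Ideal.mul_top] at h3
    refine q.isMaximal.ne_top ((Ideal.eq_top_iff_one _).2 ?_)
    have h4 : σ.symm (σ (Matrix.single k₀ k₀ 1)) k₀ k₀ ∈ q.asIdeal := h3
    rwa [AlgEquiv.symm_apply_apply, Matrix.single_apply_same] at h4
  choose i₀ j₀ hij using hex
  choose x hx using fun l : Fin n => exists_glue fun q => if l = j₀ q then (1 : W) else 0
  let g : Matrix (Fin n) (Fin n) W := Matrix.of fun i j => (σ (Matrix.single j k₀ 1)).mulVec x i
  have hcol : ∀ X, σ X * g = g * X := by
    intro X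
    ext i j
    have h : X * Matrix.single j k₀ 1 = ∑ l, X l j • Matrix.single l k₀ 1 := by
      ext a b
      rcases eq_or_ne b k₀ with rfl | hb
      · simp [Matrix.sum_apply, Matrix.single_apply]
      · simp [Matrix.sum_apply, Matrix.single_apply, hb, Ne.symm hb]
    have h1 : (σ X).mulVec ((σ (Matrix.single j k₀ 1)).mulVec x) i =
        ∑ l, X l j * (σ (Matrix.single l k₀ 1)).mulVec x i := by
      rw [Matrix.mulVec_mulVec, ← map_mul, h, map_sum, Matrix.sum_mulVec, Finset.sum_apply]
      simp only [map_smul, Matrix.smul_mulVec, Pi.smul_apply, smul_eq_mul]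
    rw [Matrix.mul_apply, Matrix.mul_apply]
    simp only [Matrix.mulVec, dotProduct] at h1
    simp only [g, Matrix.of_apply, Matrix.mulVec, dotProduct]
    rw [h1]
    exact Finset.sum_congr rfl fun l _ => mul_comm _ _
  have hdet : IsUnit g.det := by
    by_contra hu
    obtain ⟨m, hm, hmem⟩ := exists_max_ideal_of_mem_nonunits hu
    let q : MaximalSpectrum W := ⟨m, hm⟩
    haveI := hm
    letI := Ideal.Quotient.field m
    have hd : (g.map (Ideal.Quotient.mk m)).det = 0 := by
      rw [show g.map (Ideal.Quotient.mk m) = (Ideal.Quotient.mk m).mapMatrix g from rfl, ← RingHom.map_det,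
        Ideal.Quotient.eq_zero_iff_mem.2 hmem]
    obtain ⟨z, hz, hgz⟩ := Matrix.exists_mulVec_eq_zero_iff.2 hd
    choose w hw using fun i => Ideal.Quotient.mk_surjective (z i)
    apply hz
    funext l
    rw [← hw l, Pi.zero_apply, Ideal.Quotient.eq_zero_iff_mem]
    have hgw : ∀ i, g.mulVec w i ∈ m := fun i => by
      rw [← Ideal.Quotient.eq_zero_iff_mem, RingHom.map_mulVec]
      exact (congrArg (fun z' => (g.map (Ideal.Quotient.mk m)).mulVec z' i) (funext hw)).trans (congrFun hgz i)
    have key : ((σ (Matrix.single k₀ l 1)).mulVec (g.mulVec w)) (i₀ q) =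
        w l * (σ (Matrix.single k₀ k₀ 1)).mulVec x (i₀ q) := by
      rw [Matrix.mulVec_mulVec, hcol, ← Matrix.mulVec_mulVec]
      simp only [Matrix.mulVec, dotProduct, g, Matrix.of_apply]
      rw [Finset.sum_eq_single k₀ (fun b _ hb => by simp [Matrix.single_apply, Ne.symm hb]) (by simp)]
      simp [Matrix.single_apply, ite_mul, mul_comm]
    have hm1 : ((σ (Matrix.single k₀ l 1)).mulVec (g.mulVec w)) (i₀ q) ∈ m :=
      show dotProduct _ _ ∈ m from sum_mem fun i _ => Ideal.mul_mem_left _ _ (hgw i)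
    rw [key] at hm1
    refine (hm.isPrime.mem_or_mem hm1).resolve_right fun hc => hij q ?_
    simp only [Matrix.mulVec, dotProduct] at hc
    rw [← Finset.add_sum_erase _ _ (Finset.mem_univ (j₀ q))] at hc
    have hc' := (Submodule.add_mem_iff_left _ (sum_mem fun l' hl' => Ideal.mul_mem_left _ _
      (by simpa [Finset.ne_of_mem_erase hl'] using hx l' q))).1 hc
    refine (hm.isPrime.mem_or_mem hc').resolve_right fun hh => hm.ne_top ((Ideal.eq_top_iff_one m).2 ?_)
    have := hx (j₀ q) q
    rw [if_pos rfl] at this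
    simpa using sub_mem hh this
  exact ⟨((Matrix.isUnit_iff_isUnit_det g).2 hdet).unit, hcol⟩

end Groth.Agent.AzLoc
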