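import Groth.Agent.AzLoc.BC
import Mathlib.RingTheory.Finiteness.Projective

/-!
Spreading isomorphisms and inner automorphisms to étale coverings.
-/

set_option autoImplicit false
set_option backward.isDefEq.respectTransparency false
noncomputable section

open scoped TensorProduct

universe u v w w'

namespace Groth.Agent.AzLoc

variable {S : Type u} [CommRing S] {R : Type v} [CommRing R] [Algebra S R]
  {A : Type w} [Ring A] [Algebra S A] [Algebra R A] [IsScalarTower S R A]
  {A' : Type w'} [Ring A'] [Algebra S A'] [Algebra R A'] [IsScalarTower S R A']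
  {lam : R ≃ₐ[S] R} (t : AzInv.LamInv R A lam) (t' : AzInv.LamInv R A' lam)
  (pr : Option (AzInv.LamInv R A lam × AzInv.LamInv R A' lam))
  {E : Type u} [CommRing E] [Algebra S E] {E' : Type u} [CommRing E'] [Algebra S E']

variable (A) in
/-- Change of the coefficient ring. -/
abbrev ch (k : E →ₐ[S] E') : E ⊗[S] A →ₐ[S] E' ⊗[S] A := Algebra.TensorProduct.map k (AlgHom.id S A)

theorem ch_eq (k : E →ₐ[S] E') (x : E ⊗[S] A) : ch A k x = k.toLinearMap.rTensor A x := by
  induction x using TensorProduct.induction_on with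
  | zero => simp
  | add a b ha hb => simp only [map_add, ha, hb]
  | tmul e a => simp

theorem ch_bc (k : E →ₐ[S] E') (x : E ⊗[S] A) : ch A k (t.bc S lam E x) = t.bc S lam E' (ch A k x) := by
  induction x using TensorProduct.induction_on with
  | zero => simp
  | add a b ha hb => simp only [map_add, ha, hb]
  | tmul e a => simp

/-- The body of local isomorphism at a stage, with an optional pair of involutions. -/
def IsoAt (E : Type u) [CommRing E] [Algebra S E] : Prop :=
  ∃ f : E ⊗[S] A ≃ₐ[E] E ⊗[S] A',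
    (∀ (r : R) (x : E ⊗[S] A),
        f (((1 : E) ⊗ₜ[S] algebraMap R A r) * x) = ((1 : E) ⊗ₜ[S] algebraMap R A' r) * f x) ∧
      ∀ p ∈ pr, ∀ x : E ⊗[S] A, f (p.1.bc S lam E x) = p.2.bc S lam E (f x)

/-- An isomorphism over the base change of the scalars gives a local isomorphism. -/
theorem isoAt_of_iso' (h : Iso' (W := E ⊗[S] R) (bcInv E t) (bcInv E t')) : IsoAt (some (t, t')) E := by
  obtain ⟨Φ, hΦ⟩ := h
  refine ⟨Φ.restrictScalars E, fun r x => ?_, fun p hp => ?_⟩
  swap
  · rw [Option.mem_def, Option.some.injEq] at hp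
    subst hp
    exact hΦ
  show Φ (((1 : E) ⊗ₜ[S] algebraMap R A r) * x) = _
  rw [← scal_tmul, ← bc_smul_def, map_smul, bc_smul_def, scal_tmul]
  rfl

theorem iso'_of_isoAt (h : IsoAt (some (t, t')) E) : Iso' (W := E ⊗[S] R) (bcInv E t) (bcInv E t') := by
  obtain ⟨f, hf, hft⟩ := h
  have hsc : ∀ (w : E ⊗[S] R) (x : E ⊗[S] A), f (scal R A E w * x) = scal R A' E w * f x := by
    intro w x
    induction w using TensorProduct.induction_on with
    | zero => simp
    | add a b ha hb => simp only [map_add, add_mul, ha, hb]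
    | tmul e r =>
      have h1 : e ⊗ₜ[S] algebraMap R A r = e • ((1 : E) ⊗ₜ[S] algebraMap R A r) := by
        rw [TensorProduct.smul_tmul', smul_eq_mul, mul_one]
      have h2 : e ⊗ₜ[S] algebraMap R A' r = e • ((1 : E) ⊗ₜ[S] algebraMap R A' r) := by
        rw [TensorProduct.smul_tmul', smul_eq_mul, mul_one]
      rw [scal_tmul, scal_tmul, h1, h2, smul_mul_assoc, map_smul, hf, smul_mul_assoc]
  refine ⟨{ f with commutes' := fun w => ?_ }, hft (t, t') rfl⟩
  show f (scal R A E w) = scal R A' E w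
  rw [← mul_one (scal R A E w), hsc, map_one, mul_one]

section Data

variable {N M : ℕ} (a : Fin N → A) (g : A →ₗ[R] Fin N → R) (a' : Fin M → A') (g' : A' →ₗ[R] Fin M → R)

/-- The semilinear map with prescribed values on generators. -/
def gen (y : Fin N → E ⊗[S] A') : A →ₗ[S] E ⊗[S] A' where
  toFun x := ∑ i, scal R A' E ((1 : E) ⊗ₜ[S] g x i) * y i
  map_add' x x' := by simp [TensorProduct.tmul_add, add_mul, Finset.sum_add_distrib]
  map_smul' s x := by
    rw [RingHom.id_apply, Finset.smul_sum]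
    refine Finset.sum_congr rfl fun i _ => ?_
    rw [← smul_mul_assoc, ← algebraMap_smul R s x, map_smul, Pi.smul_apply, algebraMap_smul, scal_tmul, scal_tmul,
      Algebra.smul_def s (g x i), map_mul, ← IsScalarTower.algebraMap_apply, ← Algebra.smul_def,
      TensorProduct.tmul_smul]

theorem gen_smul (y : Fin N → E ⊗[S] A') (r : R) (x : A) :
    gen g y (r • x) = scal R A' E ((1 : E) ⊗ₜ[S] r) * gen g y x := by
  show ∑ i : Fin N, _ = _ * ∑ i : Fin N, _
  rw [Finset.mul_sum]
  refine Finset.sum_congr rfl fun i _ => ?_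
  rw [← mul_assoc, ← map_mul, Algebra.TensorProduct.tmul_mul_tmul, one_mul, map_smul]
  rfl

theorem ch_scal (k : E →ₐ[S] E') (r : R) :
    ch A k (scal R A E ((1 : E) ⊗ₜ[S] r)) = scal R A E' ((1 : E') ⊗ₜ[S] r) := by simp

theorem ch_gen (k : E →ₐ[S] E') (y : Fin N → E ⊗[S] A') (x : A) :
    ch A' k (gen g y x) = gen g (fun i => ch A' k (y i)) x := by
  show ch A' k (∑ i : Fin N, _) = ∑ i : Fin N, _
  rw [map_sum]
  exact Finset.sum_congr rfl fun i _ => by rw [map_mul, ch_scal]

/-- The extension to the base change. -/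
def ext' (y : Fin N → E ⊗[S] A') : E ⊗[S] A →ₗ[E] E ⊗[S] A' := (gen g y).liftBaseChange E

theorem ch_ext' (k : E →ₐ[S] E') (y : Fin N → E ⊗[S] A') (x : E ⊗[S] A) :
    ch A' k (ext' g y x) = ext' g (fun i => ch A' k (y i)) (ch A k x) := by
  induction x using TensorProduct.induction_on with
  | zero => simp [ext']
  | add p q hp hq => simp only [map_add, hp, hq]
  | tmul e p =>
    rw [ext', ext', LinearMap.liftBaseChange_tmul, Algebra.TensorProduct.map_tmul,
      LinearMap.liftBaseChange_tmul, Algebra.smul_def, map_mul, AlgHom.id_apply, ch_gen, Algebra.smul_def]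
    simp [Algebra.TensorProduct.algebraMap_apply]

/-- The equations, as defects with values in `E ⊗ A'` and `E ⊗ A`. -/
def dfR (y : Fin N → E ⊗[S] A') (z : Fin M → E ⊗[S] A) :
    Unit ⊕ (Fin N × Fin N) ⊕ Fin N ⊕ Fin M → E ⊗[S] A'
  | Sum.inl _ => gen g y 1 - 1
  | Sum.inr (Sum.inl p) => gen g y (a p.1 * a p.2) - gen g y (a p.1) * gen g y (a p.2)
  | Sum.inr (Sum.inr (Sum.inl i)) => pr.elim 0 fun p => gen g y (p.1 (a i)) - p.2.bc S lam E (gen g y (a i))
  | Sum.inr (Sum.inr (Sum.inr j)) => ext' g y (gen g' z (a' j)) - (1 : E) ⊗ₜ[S] a' j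

/-- The equation for the left inverse. -/
def dfL (y : Fin N → E ⊗[S] A') (z : Fin M → E ⊗[S] A) (i : Fin N) : E ⊗[S] A :=
  ext' g' z (gen g y (a i)) - (1 : E) ⊗ₜ[S] a i

theorem ch_dfR (k : E →ₐ[S] E') (y : Fin N → E ⊗[S] A') (z : Fin M → E ⊗[S] A) (o) :
    ch A' k (dfR pr a g a' g' y z o) =
      dfR pr a g a' g' (fun i => ch A' k (y i)) (fun j => ch A k (z j)) o := by
  rcases o with _ | p | i | j
  rotate_left 2
  · rcases pr with _ | ⟨τ, τ'⟩
    · simp [dfR]
    · simp only [dfR, Option.elim_some, map_sub, ch_gen, ch_bc]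
  all_goals (simp only [dfR, map_sub, map_one, map_mul, ch_gen, ch_ext']; try simp)

theorem ch_dfL (k : E →ₐ[S] E') (y : Fin N → E ⊗[S] A') (z : Fin M → E ⊗[S] A) (i) :
    ch A k (dfL a g g' y z i) = dfL a g g' (fun i => ch A' k (y i)) (fun j => ch A k (z j)) i := by
  simp only [dfL, map_sub, ch_ext', ch_gen]; simp

variable (ha : ∀ x, ∑ i, g x i • a i = x) (ha' : ∀ x, ∑ i, g' x i • a' i = x)

variable {a g a' g'}

theorem scal_bc (r : R) (x : E ⊗[S] A) :
    t.bc S lam E (scal R A E ((1 : E) ⊗ₜ[S] r) * x) = scal R A E ((1 : E) ⊗ₜ[S] lam r) * t.bc S lam E x := by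
  rw [bc_scal, lamE_tmul]

theorem scal_one_mul_tmul (r : R) (e : E) (x : A) :
    scal R A E ((1 : E) ⊗ₜ[S] r) * (e ⊗ₜ[S] x) = e ⊗ₜ[S] (r • x) := by
  simp [Algebra.smul_def]

theorem ext'_scal (y : Fin N → E ⊗[S] A') (r : R) (x : E ⊗[S] A) :
    ext' g y (scal R A E ((1 : E) ⊗ₜ[S] r) * x) = scal R A' E ((1 : E) ⊗ₜ[S] r) * ext' g y x := by
  induction x using TensorProduct.induction_on with
  | zero => simp
  | add p q hp hq => simp only [mul_add, map_add, hp, hq]
  | tmul e p => rw [scal_one_mul_tmul, ext', LinearMap.liftBaseChange_tmul, LinearMap.liftBaseChange_tmul,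
      gen_smul, mul_smul_comm]

include ha in
theorem eq_of_gen {P : Type*} [AddCommMonoid P] (F G : A → P) (hF : ∀ x x', F (x + x') = F x + F x')
    (hG : ∀ x x', G (x + x') = G x + G x') (h0 : F 0 = G 0)
    (h : ∀ (r : R) i, F (r • a i) = G (r • a i)) (x : A) : F x = G x := by
  classical
  rw [← ha x]
  induction (Finset.univ : Finset (Fin N)) using Finset.induction with
  | empty => simpa using h0
  | insert i s hi ih => rw [Finset.sum_insert hi, hF, hG, h, ih]

include ha ha' in
/-- Solutions of the equations give local isomorphisms. -/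
theorem isoAt_of_data {y : Fin N → E ⊗[S] A'} {z : Fin M → E ⊗[S] A}
    (hR : ∀ o, dfR pr a g a' g' y z o = 0) (hL : ∀ i, dfL a g g' y z i = 0) : IsoAt pr E := by
  have h1 : gen g y 1 = 1 := sub_eq_zero.1 (hR (Sum.inl ()))
  have hmul : ∀ x x', gen g y (x * x') = gen g y x * gen g y x' := by
    intro x x'
    refine eq_of_gen ha (fun x => gen g y (x * x')) (fun x => gen g y x * gen g y x')
      (fun p q => by rw [add_mul, map_add]) (fun p q => by rw [map_add, add_mul]) (by simp) (fun r i => ?_) x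
    rw [smul_mul_assoc, gen_smul, gen_smul, mul_assoc]
    congr 1
    refine eq_of_gen ha (fun x' => gen g y (a i * x')) (fun x' => gen g y (a i) * gen g y x')
      (fun p q => by rw [mul_add, map_add]) (fun p q => by rw [map_add, mul_add]) (by simp) (fun r' j => ?_) x'
    rw [mul_smul_comm, gen_smul, gen_smul, ← mul_assoc, ← scal_commutes, mul_assoc]
    congr 1
    exact sub_eq_zero.1 (hR (Sum.inr (Sum.inl (i, j))))
  let F : E ⊗[S] A →ₐ[E] E ⊗[S] A' := Algebra.TensorProduct.lift (Algebra.ofId E _)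
    (AlgHom.ofLinearMap (gen g y) h1 hmul) fun e x => Algebra.commutes e _
  have hF : ∀ x, F x = ext' g y x := by
    intro x
    induction x using TensorProduct.induction_on with
    | zero => simp
    | add p q hp hq => rw [map_add, map_add, hp, hq]
    | tmul e p =>
      rw [ext', LinearMap.liftBaseChange_tmul, Algebra.TensorProduct.lift_tmul, Algebra.smul_def]
      rfl
  have hGF : ∀ x, ext' g' z (ext' g y x) = x := by
    intro x
    induction x using TensorProduct.induction_on with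
    | zero => simp
    | add p q hp hq => rw [map_add, map_add, hp, hq]
    | tmul e p =>
      rw [show ext' g y (e ⊗ₜ[S] p) = e • gen g y p from LinearMap.liftBaseChange_tmul _ _ _ _, map_smul]
      rw [eq_of_gen ha (fun p => ext' g' z (gen g y p)) (fun p => (1 : E) ⊗ₜ[S] p)
        (fun p q => by rw [map_add, map_add]) (fun p q => TensorProduct.tmul_add _ _ _) (by simp)
        (fun r i => by
          rw [gen_smul, ext'_scal, sub_eq_zero.1 (hL i), scal_one_mul_tmul]) p,
        TensorProduct.smul_tmul', smul_eq_mul, mul_one]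
  have hFG : ∀ x, ext' g y (ext' g' z x) = x := by
    intro x
    induction x using TensorProduct.induction_on with
    | zero => simp
    | add p q hp hq => rw [map_add, map_add, hp, hq]
    | tmul e p =>
      rw [show ext' g' z (e ⊗ₜ[S] p) = e • gen g' z p from LinearMap.liftBaseChange_tmul _ _ _ _, map_smul]
      rw [eq_of_gen ha' (fun p => ext' g y (gen g' z p)) (fun p => (1 : E) ⊗ₜ[S] p)
        (fun p q => by rw [map_add, map_add]) (fun p q => TensorProduct.tmul_add _ _ _) (by simp)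
        (fun r j => by
          rw [gen_smul, ext'_scal, sub_eq_zero.1 (hR (Sum.inr (Sum.inr (Sum.inr j)))), scal_one_mul_tmul]) p,
        TensorProduct.smul_tmul', smul_eq_mul, mul_one]
  refine ⟨AlgEquiv.ofBijective F (Function.bijective_iff_has_inverse.2
    ⟨ext' g' z, fun x => by rw [hF, hGF], fun x => by rw [hF, hFG]⟩), fun r x => ?_, fun q hq x => ?_⟩
  · simp only [AlgEquiv.coe_ofBijective, hF, ← scal_tmul, ext'_scal]
  · simp only [AlgEquiv.coe_ofBijective, hF]
    induction x using TensorProduct.induction_on with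
    | zero => simp
    | add p q hp hq => rw [map_add, map_add, map_add, map_add, hp, hq]
    | tmul e p =>
      rw [AzInv.LamInv.bc_tmul, ext', LinearMap.liftBaseChange_tmul, LinearMap.liftBaseChange_tmul, map_smul]
      congr 1
      refine eq_of_gen ha (fun p => gen g y (q.1 p)) (fun p => q.2.bc S lam E (gen g y p))
        (fun p p' => by rw [AzInv.LamInv.map_add, map_add]) (fun p p' => by rw [map_add, map_add]) (by simp)
        (fun r i => ?_) p
      have h3 := hR (Sum.inr (Sum.inr (Sum.inl i)))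
      rw [Option.mem_def] at hq
      subst hq
      rw [q.1.map_smul, gen_smul, gen_smul, scal_bc, sub_eq_zero.1 h3]

omit ha' in
include ha in
theorem gen_of_equiv (f : E ⊗[S] A ≃ₐ[E] E ⊗[S] A')
    (hf : ∀ (r : R) (x : E ⊗[S] A),
      f (((1 : E) ⊗ₜ[S] algebraMap R A r) * x) = ((1 : E) ⊗ₜ[S] algebraMap R A' r) * f x) :
    (∀ x, gen g (fun i => f ((1 : E) ⊗ₜ[S] a i)) x = f ((1 : E) ⊗ₜ[S] x)) ∧
      ∀ x, ext' g (fun i => f ((1 : E) ⊗ₜ[S] a i)) x = f x := by
  have h1 : ∀ x, gen g (fun i => f ((1 : E) ⊗ₜ[S] a i)) x = f ((1 : E) ⊗ₜ[S] x) := fun x => by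
    rw [show f ((1 : E) ⊗ₜ[S] x) = ∑ i, f ((1 : E) ⊗ₜ[S] (g x i • a i)) by
      conv_lhs => rw [← ha x]
      exact map_sum ((f.toLinearMap.restrictScalars S) ∘ₗ TensorProduct.mk S E A 1) _ _]
    show ∑ i : Fin N, _ = ∑ i : Fin N, _
    refine Finset.sum_congr rfl fun i _ => ?_
    rw [scal_tmul, ← hf, Algebra.TensorProduct.tmul_mul_tmul, one_mul, Algebra.smul_def]
  refine ⟨h1, fun x => ?_⟩
  induction x using TensorProduct.induction_on with
  | zero => simp
  | add p q hp hq => rw [map_add, map_add, hp, hq]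
  | tmul e p =>
    rw [ext', LinearMap.liftBaseChange_tmul, h1, ← map_smul, TensorProduct.smul_tmul', smul_eq_mul, mul_one]

include ha ha' in
/-- Local isomorphisms give solutions of the equations. -/
theorem data_of_isoAt (h : IsoAt pr E) : ∃ (y : Fin N → E ⊗[S] A') (z : Fin M → E ⊗[S] A),
    (∀ o, dfR pr a g a' g' y z o = 0) ∧ ∀ i, dfL a g g' y z i = 0 := by
  obtain ⟨f, hf, hft⟩ := h
  have hf' : ∀ (r : R) (x : E ⊗[S] A'),
      f.symm (((1 : E) ⊗ₜ[S] algebraMap R A' r) * x) = ((1 : E) ⊗ₜ[S] algebraMap R A r) * f.symm x :=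
    fun r x => f.injective (by rw [hf, AlgEquiv.apply_symm_apply, AlgEquiv.apply_symm_apply])
  obtain ⟨hy, hy'⟩ := gen_of_equiv ha f hf
  obtain ⟨hz, hz'⟩ := gen_of_equiv ha' f.symm hf'
  refine ⟨fun i => f ((1 : E) ⊗ₜ[S] a i), fun j => f.symm ((1 : E) ⊗ₜ[S] a' j), fun o => ?_, fun i => ?_⟩
  · rcases o with _ | p | i | j
    · simp only [dfR, hy, ← Algebra.TensorProduct.one_def, map_one, sub_self]
    · simp only [dfR, hy, ← map_mul, Algebra.TensorProduct.tmul_mul_tmul, one_mul, sub_self]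
    · rcases pr with _ | ⟨τ, τ'⟩
      · simp [dfR]
      · simp only [dfR, Option.elim_some, hy, ← AzInv.LamInv.bc_tmul, hft (τ, τ') rfl, sub_self]
    · simp only [dfR, hz, hy', AlgEquiv.apply_symm_apply, sub_self]
  · simp only [dfL, hy, hz', AlgEquiv.symm_apply_apply, sub_self]

end Data

variable [Module.Finite R A] [Module.Projective R A] [Module.Finite R A'] [Module.Projective R A']

omit [Algebra S A] [IsScalarTower S R A] [Module.Finite R A'] [Module.Projective R A'] in
theorem exists_gen : ∃ (N : ℕ) (a : Fin N → A) (g : A →ₗ[R] Fin N → R), ∀ x, ∑ i, g x i • a i = x := by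
  obtain ⟨n, f, g, -, -, hfg⟩ := Module.Finite.exists_comp_eq_id_of_projective R A
  refine ⟨n, fun i => f (Pi.single i 1), g, fun x => ?_⟩
  have h := LinearMap.congr_fun hfg x
  rw [LinearMap.comp_apply, LinearMap.id_apply, pi_eq_sum_univ' (g x), map_sum] at h
  simpa using h

/-- Local isomorphisms propagate along maps of coefficient rings. -/
theorem IsoAt.map (h : IsoAt pr E) (k : E →ₐ[S] E') : IsoAt pr E' := by
  obtain ⟨N, a, g, ha⟩ := exists_gen (R := R) (A := A)
  obtain ⟨M, a', g', ha'⟩ := exists_gen (R := R) (A := A')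
  obtain ⟨y, z, hR, hL⟩ := data_of_isoAt pr ha ha' h
  refine isoAt_of_data pr ha ha' (y := fun i => ch A' k (y i)) (z := fun j => ch A k (z j))
    (fun o => ?_) (fun i => ?_)
  · rw [← ch_dfR, hR, map_zero]
  · rw [← ch_dfL, hL, map_zero]

/-- Isomorphisms at every strict henselisation glue to a covering. -/
theorem exists_iso_cover
    (h : ∀ (p : PrimeSpectrum S) (T : Type u) [CommRing T] [HenselianLocalRing T] [Algebra S T],
      IsSepClosed (IsLocalRing.ResidueField T) →
      (IsLocalRing.maximalIdeal T).comap (algebraMap S T) = p.asIdeal → MultT.IsEtColim S T →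
      IsoAt pr T) :
    ∃ (E : Type u) (_ : CommRing E) (_ : Algebra S E) (_ : Algebra.Etale S E) (_ : Module.FaithfullyFlat S E),
      IsoAt pr E := by
  obtain ⟨N, a, g, ha⟩ := exists_gen (R := R) (A := A)
  obtain ⟨M, a', g', ha'⟩ := exists_gen (R := R) (A := A')
  obtain ⟨E, i1, i2, het, hff, hE⟩ := exists_cover (S := S) (fun E _ _ => IsoAt pr E)
    (fun p T _ _ _ hsc hp hcol => by
      obtain ⟨y, z, hR, hL⟩ := data_of_isoAt pr ha ha' (h p T hsc hp hcol)
      obtain ⟨E₁, _, _, χ₁, _, y₁, het₁, -, hy₁⟩ := exists_lift_tensor hcol N S (Algebra.ofId S T) y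
      haveI := het₁
      obtain ⟨E₂, _, _, χ₂, f₂, z₂, het₂, hc₂, hz₂⟩ := exists_lift_tensor hcol M E₁ χ₁ z
      haveI := het₂
      let y₂ := fun i => ch A' f₂ (y₁ i)
      have ey : (fun i => ch A' χ₂ (y₂ i)) = y := funext fun i => by
        show ch A' χ₂ (ch A' f₂ (y₁ i)) = y i
        rw [ch_eq, ch_eq, ← LinearMap.rTensor_comp_apply,
          show χ₂.toLinearMap ∘ₗ f₂.toLinearMap = χ₁.toLinearMap from congrArg AlgHom.toLinearMap hc₂, hy₁]
      have ez : (fun j => ch A χ₂ (z₂ j)) = z := funext fun j => by rw [ch_eq, hz₂]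
      obtain ⟨E₃, _, _, χ₃, f₃, het₃, hc₃, hv⟩ := exists_vanish_family' hcol E₂ χ₂
        (fun o => dfR pr a g a' g' y₂ z₂ o) (fun o => by rw [← ch_eq, ch_dfR, ey, ez, hR])
      haveI := het₃
      obtain ⟨E₄, _, _, χ₄, f₄, het₄, -, hw⟩ := exists_vanish_family' hcol E₃ χ₃
        (fun i => ch A f₃ (dfL a g g' y₂ z₂ i)) (fun i => by
          rw [← ch_eq, ch_eq f₃, ch_eq χ₃, ← LinearMap.rTensor_comp_apply,
            show χ₃.toLinearMap ∘ₗ f₃.toLinearMap = χ₂.toLinearMap from congrArg AlgHom.toLinearMap hc₃,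
            ← ch_eq, ch_dfL, ey, ez, hL])
      refine ⟨E₄, inferInstance, inferInstance, χ₄, het₄, isoAt_of_data pr ha ha'
        (y := fun i => ch A' f₄ (ch A' f₃ (y₂ i))) (z := fun j => ch A f₄ (ch A f₃ (z₂ j)))
        (fun o => ?_) (fun i => ?_)⟩
      · rw [← ch_dfR, ← ch_dfR, ch_eq f₃, hv, map_zero]
      · rw [← ch_dfL, ← ch_dfL, ch_eq f₄, hw])
    (fun k E _ _ hE => by
      choose y z hR hL using fun i => data_of_isoAt pr ha ha' (hE i)
      refine isoAt_of_data pr ha ha' (y := fun i => glue E A' fun j => y j i)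
        (z := fun l => glue E A fun j => z j l) (fun o => ?_) (fun i => ?_)
      · refine proj_ext E A' fun j => ?_
        rw [map_zero, ← ch_eq, ch_dfR, ← hR j o]
        simp only [ch_eq, proj_glue]
      · refine proj_ext E A fun j => ?_
        rw [map_zero, ← ch_eq, ch_dfL, ← hL j i]
        simp only [ch_eq, proj_glue])
  exact ⟨E, i1, i2, het, hff, hE⟩

/-- Isomorphisms at every strict henselisation give a local isomorphism. -/
theorem locIso_of_local
    (h : ∀ (p : PrimeSpectrum S) (T : Type u) [CommRing T] [HenselianLocalRing T] [Algebra S T],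
      IsSepClosed (IsLocalRing.ResidueField T) →
      (IsLocalRing.maximalIdeal T).comap (algebraMap S T) = p.asIdeal → MultT.IsEtColim S T →
      IsoAt (some (t, t')) T) : AzInv.LocIsoEt S lam t t' := by
  obtain ⟨E, i1, i2, het, hff, f, h1, h2⟩ := exists_iso_cover (some (t, t')) h
  exact ⟨E, i1, i2, het, hff, f, h1, h2 (t, t') rfl⟩

theorem isoAt_of_locIso (h : AzInv.LocIsoEt S lam t t') (T : Type u) [CommRing T] [HenselianLocalRing T]
    [Algebra S T] [IsSepClosed (IsLocalRing.ResidueField T)] : IsoAt (some (t, t')) T := by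
  obtain ⟨E, i1, i2, het, hff, f, h1, h2⟩ := h
  obtain ⟨π⟩ := exists_point (S := S) (T := T) E
  exact IsoAt.map (some (t, t')) (show IsoAt (some (t, t')) E from ⟨f, h1, fun p hp => by
    rw [Option.mem_def, Option.some.injEq] at hp
    subst hp
    exact h2⟩) π

section Units

variable (ψ : A →ₐ[R] A) (τ : Option (A →ₗ[S] A))

/-- The base change of an endomorphism. -/
abbrev endBC (E : Type u) [CommRing E] [Algebra S E] : E ⊗[S] A →ₐ[S] E ⊗[S] A :=
  Algebra.TensorProduct.map (AlgHom.id S E) (ψ.restrictScalars S)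

/-- Inner form of an endomorphism at a stage, with an optional unitarity condition. -/
def InnerAt (E : Type u) [CommRing E] [Algebra S E] : Prop :=
  ∃ u : (E ⊗[S] A)ˣ, (∀ x : E ⊗[S] A, endBC ψ E x * (u : E ⊗[S] A) = (u : E ⊗[S] A) * x) ∧
    ∀ τ₀ ∈ τ, LinearMap.baseChange E τ₀ (u : E ⊗[S] A) * u = 1

/-- The defects. -/
def dfU {N : ℕ} (a : Fin N → A) (u v : E ⊗[S] A) : Fin 3 ⊕ Fin N → E ⊗[S] A
  | Sum.inl 0 => u * v - 1
  | Sum.inl 1 => v * u - 1
  | Sum.inl 2 => τ.elim 0 (fun τ₀ => LinearMap.baseChange E τ₀ u * u - 1)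
  | Sum.inr i => endBC ψ E ((1 : E) ⊗ₜ[S] a i) * u - u * ((1 : E) ⊗ₜ[S] a i)

theorem ch_dfU {N : ℕ} (a : Fin N → A) (k : E →ₐ[S] E') (u v : E ⊗[S] A) (o) :
    ch A k (dfU ψ τ a u v o) = dfU ψ τ a (ch A k u) (ch A k v) o := by
  have hbc : ∀ (τ₀ : A →ₗ[S] A) (x : E ⊗[S] A),
      ch A k (LinearMap.baseChange E τ₀ x) = LinearMap.baseChange E' τ₀ (ch A k x) := by
    intro τ₀ x
    induction x using TensorProduct.induction_on with
    | zero => simp
    | add a b ha hb => simp only [map_add, ha, hb]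
    | tmul e a => simp
  rcases o with j | i
  · fin_cases j
    · simp [dfU]
    · simp [dfU]
    · rcases τ with _ | τ₀
      · simp [dfU]
      · simp [dfU, hbc]
  · simp [dfU]

omit [Module.Finite R A] [Module.Projective R A] in
theorem innerAt_of_data {N : ℕ} {a : Fin N → A} {g : A →ₗ[R] Fin N → R} (ha : ∀ x, ∑ i, g x i • a i = x)
    {u v : E ⊗[S] A} (h : ∀ o, dfU ψ τ a u v o = 0) : InnerAt ψ τ E := by
  refine ⟨⟨u, v, sub_eq_zero.1 (h (Sum.inl 0)), sub_eq_zero.1 (h (Sum.inl 1))⟩, fun x => ?_, fun τ₀ hτ₀ => ?_⟩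
  · show endBC ψ E x * u = u * x
    induction x using TensorProduct.induction_on with
    | zero => simp
    | add p q hp hq => rw [map_add, add_mul, mul_add, hp, hq]
    | tmul e p =>
      have h1 : ∀ q : A, e ⊗ₜ[S] q = (e ⊗ₜ[S] (1 : A)) * ((1 : E) ⊗ₜ[S] q) := fun q => by simp
      have h2 : ∀ z : E ⊗[S] A, (e ⊗ₜ[S] (1 : A)) * z = z * (e ⊗ₜ[S] (1 : A)) := fun z => by
        simpa [Algebra.TensorProduct.algebraMap_apply] using Algebra.commutes e z
      rw [h1, map_mul]
      simp only [Algebra.TensorProduct.map_tmul, AlgHom.id_apply, map_one, AlgHom.restrictScalars_apply]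
      rw [mul_assoc, ← mul_assoc u, ← h2 u, mul_assoc]
      congr 1
      refine eq_of_gen ha (fun q => ((1 : E) ⊗ₜ[S] ψ q) * u) (fun q => u * ((1 : E) ⊗ₜ[S] q))
        (fun p q => by simp [TensorProduct.tmul_add, add_mul]) (fun p q => by simp [TensorProduct.tmul_add, mul_add])
        (by simp) (fun r i => ?_) p
      rw [map_smul, ← scal_one_mul_tmul, ← scal_one_mul_tmul, mul_assoc, ← mul_assoc u, ← scal_commutes, mul_assoc]
      congr 1
      exact sub_eq_zero.1 (h (Sum.inr i))
  · rw [Option.mem_def] at hτ₀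
    subst hτ₀
    exact sub_eq_zero.1 (h (Sum.inl 2))

omit [Module.Finite R A] [Module.Projective R A] in
theorem data_of_innerAt {N : ℕ} (a : Fin N → A) (h : InnerAt ψ τ E) :
    ∃ u v : E ⊗[S] A, ∀ o, dfU ψ τ a u v o = 0 := by
  obtain ⟨u, hu, hτ⟩ := h
  refine ⟨u, (↑u⁻¹ : E ⊗[S] A), fun o => ?_⟩
  rcases o with j | i
  · fin_cases j
    · simp [dfU]
    · simp [dfU]
    · rcases τ with _ | τ₀
      · simp [dfU]
      · simp [dfU, hτ τ₀ rfl]
  · exact sub_eq_zero.2 (hu _)

/-- Inner forms at every strict henselisation glue to a covering. -/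
theorem exists_inner_cover
    (h : ∀ (p : PrimeSpectrum S) (T : Type u) [CommRing T] [HenselianLocalRing T] [Algebra S T],
      IsSepClosed (IsLocalRing.ResidueField T) →
      (IsLocalRing.maximalIdeal T).comap (algebraMap S T) = p.asIdeal → MultT.IsEtColim S T →
      InnerAt ψ τ T) :
    ∃ (E : Type u) (_ : CommRing E) (_ : Algebra S E), Algebra.Etale S E ∧ Module.FaithfullyFlat S E ∧
      InnerAt ψ τ E := by
  obtain ⟨N, a, g, ha⟩ := exists_gen (R := R) (A := A)
  refine exists_cover (S := S) (fun E _ _ => InnerAt ψ τ E)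
    (fun p T _ _ _ hsc hp hcol => ?_) (fun k E _ _ hE => ?_)
  · obtain ⟨u, v, huv⟩ := data_of_innerAt ψ τ a (h p T hsc hp hcol)
    obtain ⟨E₁, _, _, χ₁, _, y, het₁, -, hy⟩ :=
      exists_lift_tensor hcol 2 S (Algebra.ofId S T) (fun i : Fin 2 => if i = 0 then u else v)
    haveI := het₁
    obtain ⟨E₂, _, _, χ₂, f₂, het₂, -, hv⟩ := exists_vanish_family' hcol E₁ χ₁
      (fun o => dfU ψ τ a (y 0) (y 1) o) (fun o => by
        rw [← ch_eq, ch_dfU, ch_eq, ch_eq, hy, hy]
        simpa using huv o)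
    exact ⟨E₂, inferInstance, inferInstance, χ₂, het₂, innerAt_of_data ψ τ ha
      (u := ch A f₂ (y 0)) (v := ch A f₂ (y 1)) fun o => by rw [← ch_dfU, ch_eq, hv]⟩
  · choose u v huv using fun i => data_of_innerAt ψ τ a (hE i)
    refine innerAt_of_data ψ τ ha (u := glue E A u) (v := glue E A v) fun o => proj_ext E A fun j => ?_
    rw [map_zero, ← ch_eq, ch_dfU, ← huv j o]
    simp only [ch_eq, proj_glue]

end Units

end Groth.Agent.AzLoc
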