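import Groth.Prelude.Def_AzInv
import Groth.Agent.AzLoc.Split
import Mathlib.Data.Matrix.Composition
import Mathlib.LinearAlgebra.Matrix.Reindex
import Mathlib.LinearAlgebra.Dimension.Constructions

/-!
Matrix presentations of involutions and their changes.
-/

set_option autoImplicit false
set_option backward.isDefEq.respectTransparency false

open AzInv (lamTr)

universe u x

namespace Groth.Agent.AzLoc

variable {T : Type u} [CommRing T] {W : Type x} [CommRing W] [Algebra T W] (lam : W ≃ₐ[T] W)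
variable {ι : Type*} [Fintype ι] [DecidableEq ι] {κ : Type*} [Fintype κ] [DecidableEq κ]

omit [Fintype ι] [DecidableEq ι] in
theorem lamTr_add (M N : Matrix ι ι W) : lamTr lam (M + N) = lamTr lam M + lamTr lam N := by
  ext i j; simp

omit [DecidableEq ι] in
theorem lamTr_mul (M N : Matrix ι ι W) : lamTr lam (M * N) = lamTr lam N * lamTr lam M := by
  simp only [lamTr, Matrix.map_mul, Matrix.transpose_mul]

omit [Fintype ι] in
theorem lamTr_one : lamTr lam (1 : Matrix ι ι W) = 1 := by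
  ext i j; simp [Matrix.one_apply, apply_ite lam, eq_comm]

omit [Fintype ι] [DecidableEq ι] in
theorem lamTr_smul (c : W) (M : Matrix ι ι W) : lamTr lam (c • M) = lam c • lamTr lam M := by
  ext i j; simp

variable {lam}

omit [Fintype ι] [DecidableEq ι] in
theorem lamTr_lamTr (hI : IsInv lam) (M : Matrix ι ι W) : lamTr lam (lamTr lam M) = M := by
  ext i j; simp [hI.invol]

theorem det_lamTr (M : Matrix ι ι W) : (lamTr lam M).det = lam M.det := by
  rw [lamTr, Matrix.det_transpose, AlgEquiv.map_det, AlgEquiv.mapMatrix_apply]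

theorem isUnit_lamTr {M : Matrix ι ι W} (hM : IsUnit M) : IsUnit (lamTr lam M) := by
  rw [Matrix.isUnit_iff_isUnit_det, det_lamTr]
  exact ((Matrix.isUnit_iff_isUnit_det M).1 hM).map _

variable (lam) in
/-- A presentation of an involution as a twisted transpose. -/
def Std (s : W) (ι : Type*) [Fintype ι] [DecidableEq ι] {B : Type*} [Ring B] [Algebra W B] (τ : B → B) :
    Prop :=
  ∃ (θ : B ≃ₐ[W] Matrix ι ι W) (u : Matrix ι ι W), IsUnit u ∧ lamTr lam u = s • u ∧
    ∀ b, θ (τ b) * u = u * lamTr lam (θ b)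

/-- An isomorphism of algebras with involution. -/
def Iso' {B B' : Type*} [Ring B] [Algebra W B] [Ring B'] [Algebra W B'] (τ : B → B) (τ' : B' → B') : Prop :=
  ∃ Φ : B ≃ₐ[W] B', ∀ b, Φ (τ b) = τ' (Φ b)

section

variable {B : Type*} [Ring B] [Algebra W B] {τ : B → B}

theorem Std.of_iso {s : W} (h : Std lam s ι τ) {B' : Type*} [Ring B'] [Algebra W B'] {τ' : B' → B'}
    (hi : Iso' (W := W) τ' τ) : Std lam s ι τ' := by
  obtain ⟨θ, u, hu, hs, hτ⟩ := h
  obtain ⟨Φ, hΦ⟩ := hi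
  exact ⟨Φ.trans θ, u, hu, hs, fun b => by rw [AlgEquiv.trans_apply, hΦ, hτ]; rfl⟩

theorem Iso'.symm {B' : Type*} [Ring B'] [Algebra W B'] {τ' : B' → B'}
    (h : Iso' (W := W) τ τ') : Iso' (W := W) τ' τ := by
  obtain ⟨Φ, hΦ⟩ := h
  exact ⟨Φ.symm, fun b => Φ.injective (by rw [AlgEquiv.apply_symm_apply, hΦ, AlgEquiv.apply_symm_apply])⟩

theorem Iso'.trans {B' : Type*} [Ring B'] [Algebra W B'] {τ' : B' → B'} {B'' : Type*} [Ring B''] [Algebra W B'']
    {τ'' : B'' → B''} (h : Iso' (W := W) τ τ') (h' : Iso' (W := W) τ' τ'') : Iso' (W := W) τ τ'' := by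
  obtain ⟨Φ, hΦ⟩ := h
  obtain ⟨Ψ, hΨ⟩ := h'
  exact ⟨Φ.trans Ψ, fun b => by simp [hΦ, hΨ]⟩

omit [Algebra T W] in
theorem smul_left_cancel_of_isUnit [Nonempty ι] {M : Matrix ι ι W} (hM : IsUnit M) {a b : W}
    (h : a • M = b • M) : a = b := by
  obtain ⟨M, rfl⟩ := hM
  have h1 := congrArg (· * (↑M⁻¹ : Matrix ι ι W)) h
  simp only [smul_mul_assoc, Units.mul_inv] at h1
  obtain ⟨i⟩ := ‹Nonempty ι›
  simpa using congrFun (congrFun h1 i) i

theorem conj_smul {u : Matrix ι ι W} {X Y : Matrix ι ι W} (h : X * u = u * Y) (c : W) :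
    X * (c • u) = (c • u) * Y := by
  rw [mul_smul_comm, smul_mul_assoc, h]

/-- Scalar change of the matrix. -/
theorem Std.scale {s : W} (h : Std lam s ι τ) {c s' : W} (hc : IsUnit c) (hcs : lam c * s = s' * c) :
    Std lam s' ι τ := by
  obtain ⟨θ, u, hu, hs, hτ⟩ := h
  exact ⟨θ, c • u, by simpa [Units.smul_def] using hu.smul hc.unit,
    by rw [lamTr_smul, hs, smul_smul, hcs, smul_smul], fun b => conj_smul (hτ b) c⟩

/-- Congruent matrices give the same involution. -/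
theorem std_congr {θ : B ≃ₐ[W] Matrix ι ι W} {u u' g : Matrix ι ι W}
    (hτ : ∀ b, θ (τ b) * u = u * lamTr lam (θ b)) (hg : IsUnit g) {c : W} (hc : IsUnit c)
    (he : c • u = g * u' * lamTr lam g) :
    ∃ θ' : B ≃ₐ[W] Matrix ι ι W, ∀ b, θ' (τ b) * u' = u' * lamTr lam (θ' b) := by
  obtain ⟨g, rfl⟩ := hg
  refine ⟨θ.trans (MulSemiringAction.toAlgEquiv W (Matrix ι ι W) (ConjAct.toConjAct g⁻¹)), fun b => ?_⟩
  have hθ : ∀ b, θ.trans (MulSemiringAction.toAlgEquiv W (Matrix ι ι W) (ConjAct.toConjAct g⁻¹)) b =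
      (↑g⁻¹ : Matrix ι ι W) * θ b * (↑g : Matrix ι ι W) := fun b => by
    show (ConjAct.toConjAct g⁻¹ • θ b) = _
    rw [ConjAct.units_smul_def]
    simp
  have h := conj_smul (hτ b) c
  rw [he] at h
  obtain ⟨g', hg'⟩ := isUnit_lamTr (lam := lam) g.isUnit
  rw [hθ, hθ, lamTr_mul, lamTr_mul]
  have h' := congrArg (fun X => (↑g⁻¹ : Matrix ι ι W) * X * (↑g'⁻¹ : Matrix ι ι W)) h
  simp only [← hg', ← mul_assoc, Units.inv_mul, one_mul] at h'
  rw [mul_assoc (_ * u') _ _, Units.mul_inv, mul_one] at h'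
  have hinv : lamTr lam (↑g⁻¹ : Matrix ι ι W) = (↑g'⁻¹ : Matrix ι ι W) := by
    apply Units.eq_inv_of_mul_eq_one_left
    rw [hg', ← lamTr_mul, Units.inv_mul, lamTr_one]
  rw [hinv, ← hg', h']
  simp only [mul_assoc]

/-- Two presentations with the same matrix are isomorphic. -/
theorem iso_of_same {B' : Type*} [Ring B'] [Algebra W B'] {τ' : B' → B'} {u : Matrix ι ι W} (hu : IsUnit u)
    {θ : B ≃ₐ[W] Matrix ι ι W} (hτ : ∀ b, θ (τ b) * u = u * lamTr lam (θ b))
    {θ' : B' ≃ₐ[W] Matrix ι ι W} (hτ' : ∀ b, θ' (τ' b) * u = u * lamTr lam (θ' b)) :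
    Iso' (W := W) τ τ' :=
  ⟨θ.trans θ'.symm, fun b => θ'.injective (hu.mul_right_cancel (by
    simp only [AlgEquiv.trans_apply, AlgEquiv.apply_symm_apply]
    rw [hτ, hτ' (θ'.symm (θ b)), AlgEquiv.apply_symm_apply]))⟩

theorem Std.reindex {s : W} (h : Std lam s ι τ) (e : ι ≃ κ) : Std lam s κ τ := by
  obtain ⟨θ, u, hu, hs, hτ⟩ := h
  let r : Matrix ι ι W ≃ₐ[W] Matrix κ κ W := Matrix.reindexAlgEquiv W W e
  have hr : ∀ M, lamTr lam (r M) = r (lamTr lam M) := fun M => rfl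
  refine ⟨θ.trans r, r u, hu.map r, by rw [hr, hs, map_smul], fun b => ?_⟩
  rw [AlgEquiv.trans_apply, AlgEquiv.trans_apply, hr, ← map_mul, hτ, map_mul]

/-- Blowing up to matrices over the algebra. -/
theorem Std.matrix {s : W} (h : Std lam s ι τ) (μ : Type*) [Fintype μ] [DecidableEq μ] :
    Std lam s (μ × ι) (lamTr τ : Matrix μ μ B → Matrix μ μ B) := by
  obtain ⟨θ, u, hu, hs, hτ⟩ := h
  let Θ : Matrix μ μ B ≃ₐ[W] Matrix (μ × ι) (μ × ι) W :=
    θ.mapMatrix.trans (Matrix.compAlgEquiv μ ι W W)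
  have hΘ : ∀ M a i b j, Θ M (a, i) (b, j) = θ (M a b) i j := fun M a i b j => rfl
  let D : Matrix (μ × ι) (μ × ι) W := Matrix.compAlgEquiv μ ι W W (Matrix.diagonal fun _ => u)
  have hD : ∀ a i b j, D (a, i) (b, j) = if a = b then u i j else 0 := fun a i b j => by
    show (Matrix.diagonal fun _ => u) a b i j = _
    rcases eq_or_ne a b with rfl | hab
    · simp
    · simp [hab]
  refine ⟨Θ, D, IsUnit.map (Matrix.compAlgEquiv μ ι W W) ?_, ?_, fun M => ?_⟩
  · obtain ⟨u, rfl⟩ := hu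
    exact ⟨⟨Matrix.diagonal fun _ => (u : Matrix ι ι W), Matrix.diagonal fun _ => (↑u⁻¹ : Matrix ι ι W),
      by simp, by simp⟩, rfl⟩
  · ext ⟨a, i⟩ ⟨b, j⟩
    rw [AzInv.lamTr_apply, Matrix.smul_apply, hD, hD]
    rcases eq_or_ne a b with rfl | hab
    · rw [if_pos rfl, if_pos rfl, ← AzInv.lamTr_apply (⇑lam), hs]; rfl
    · rw [if_neg hab, if_neg (Ne.symm hab), map_zero, smul_zero]
  · ext ⟨a, i⟩ ⟨b, j⟩
    rw [Matrix.mul_apply, Matrix.mul_apply, Fintype.sum_prod_type, Fintype.sum_prod_type]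
    simp only [hΘ, hD, AzInv.lamTr_apply, mul_ite, ite_mul, mul_zero, zero_mul]
    rw [Finset.sum_eq_single b (fun c _ hc => Finset.sum_eq_zero fun l _ => if_neg hc) (by simp),
      Finset.sum_eq_single a (fun c _ hc => Finset.sum_eq_zero fun l _ => if_neg (Ne.symm hc)) (by simp)]
    simp only [if_true]
    have := congrFun (congrFun (hτ (M b a)) i) j
    rw [Matrix.mul_apply, Matrix.mul_apply] at this
    exact this

end

section Semi

variable [Finite (MaximalSpectrum W)] {B : Type*} [Ring B] [Algebra W B] {τ : B → B}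

omit [Finite (MaximalSpectrum W)] [Algebra T W] in
theorem eq_scalar_of_commute {M : Matrix ι ι W} (h : ∀ X, X * M = M * X) : ∃ c : W, M = c • 1 := by
  obtain ⟨c, hc⟩ := Matrix.mem_range_scalar_of_commute_single (M := M) fun i j _ => h (Matrix.single i j 1)
  exact ⟨c, by rw [← hc]; ext i j; simp [Matrix.one_apply, Matrix.diagonal_apply]⟩

omit [Algebra T W] in
theorem exists_conj_of_equiv {n : ℕ} (θ θ' : B ≃ₐ[W] Matrix (Fin n) (Fin n) W) :
    ∃ g : (Matrix (Fin n) (Fin n) W)ˣ, ∀ b, θ' b * g = g * θ b := by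
  obtain ⟨g, hg⟩ := exists_conj (θ.symm.trans θ')
  exact ⟨g, fun b => by simpa using hg (θ b)⟩

variable (T) in
/-- Every involution of a split algebra has a presentation. -/
theorem exists_std_of_equiv (hI : IsInv lam) {n : ℕ} (hn : 0 < n) (θ : B ≃ₐ[W] Matrix (Fin n) (Fin n) W)
    (t : AzInv.LamInv W B lam) : ∃ s : W, lam s * s = 1 ∧ Std lam s (Fin n) t := by
  haveI : Nonempty (Fin n) := ⟨⟨0, hn⟩⟩
  let φ : Matrix (Fin n) (Fin n) W →ₐ[W] Matrix (Fin n) (Fin n) W := AlgHom.ofLinearMap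
    { toFun := fun X => lamTr lam (θ (t (θ.symm X)))
      map_add' := fun X Y => by rw [map_add, t.map_add, map_add, lamTr_add]
      map_smul' := fun c X => by
        rw [map_smul, t.map_smul, map_smul, lamTr_smul, hI.invol, RingHom.id_apply] }
    (by show lamTr lam (θ (t (θ.symm 1))) = 1; rw [map_one, t.map_one, map_one, lamTr_one])
    (fun X Y => by
      show lamTr lam _ = lamTr lam _ * lamTr lam _
      rw [map_mul, t.map_mul, map_mul, lamTr_mul])
  have hφ : ∀ X, φ X = lamTr lam (θ (t (θ.symm X))) := fun X => rfl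
  have hbij : Function.Bijective φ := by
    refine ⟨fun X Y h => ?_, fun Y => ⟨θ (t (θ.symm (lamTr lam Y))), ?_⟩⟩
    · rw [hφ, hφ] at h
      exact θ.symm.injective (t.injective (θ.injective (by
        rw [← lamTr_lamTr hI (θ (t (θ.symm X))), h, lamTr_lamTr hI])))
    · rw [hφ, AlgEquiv.symm_apply_apply, t.invol, AlgEquiv.apply_symm_apply, lamTr_lamTr hI]
  obtain ⟨g, hg⟩ := exists_conj (AlgEquiv.ofBijective φ hbij)
  obtain ⟨g', hg'⟩ := isUnit_lamTr (lam := lam) g.isUnit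
  set u : Matrix (Fin n) (Fin n) W := ↑g'⁻¹ with hu_def
  have hu : IsUnit u := g'⁻¹.isUnit
  have hτ : ∀ b, θ (t b) * u = u * lamTr lam (θ b) := fun b => by
    have h : φ (θ b) * g = g * θ b := hg (θ b)
    rw [hφ, AlgEquiv.symm_apply_apply] at h
    have h' := congrArg (lamTr lam) h
    rw [lamTr_mul, lamTr_mul, lamTr_lamTr hI, ← hg'] at h'
    calc θ (t b) * u = ↑g'⁻¹ * (↑g' * θ (t b)) * u := by rw [Units.inv_mul_cancel_left]
      _ = u * lamTr lam (θ b) := by rw [h', hu_def, ← mul_assoc, Units.mul_inv_cancel_right]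
  obtain ⟨v, hv⟩ := isUnit_lamTr (lam := lam) hu
  obtain ⟨uu, huu⟩ := hu
  have key : ∀ X, X * (v.val * uu⁻¹.val) = (v.val * uu⁻¹.val) * X := by
    intro X
    obtain ⟨b, rfl⟩ := θ.surjective X
    have h1 := hτ (t b)
    rw [t.invol] at h1
    have h2 := congrArg (lamTr lam) (hτ b)
    rw [lamTr_mul, lamTr_mul, lamTr_lamTr hI, ← hv] at h2
    -- h2 : v * lamTr (θ (t b)) = θ b * v
    rw [← huu] at h1
    calc θ b * (v.val * uu⁻¹.val) = v.val * lamTr lam (θ (t b)) * uu⁻¹.val := by rw [← mul_assoc, ← h2]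
      _ = v.val * uu⁻¹.val * (uu.val * lamTr lam (θ (t b))) * uu⁻¹.val := by
        rw [mul_assoc (↑v : Matrix (Fin n) (Fin n) W) ↑uu⁻¹, Units.inv_mul_cancel_left]
      _ = v.val * uu⁻¹.val * θ b := by rw [← h1]; simp [mul_assoc]
  obtain ⟨s, hs⟩ := eq_scalar_of_commute key
  have hsu : lamTr lam u = s • u := by
    rw [← hv, ← huu]
    have := congrArg (· * (uu : Matrix (Fin n) (Fin n) W)) hs
    simpa [mul_assoc] using this
  have hu : IsUnit u := g'⁻¹.isUnit
  refine ⟨s, smul_left_cancel_of_isUnit hu ?_, θ, u, hu, hsu, hτ⟩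
  have := congrArg (lamTr lam) hsu
  rw [lamTr_lamTr hI, lamTr_smul, hsu, smul_smul] at this
  rw [← this, one_smul]

/-- The sign is determined up to congruence. -/
theorem Std.sign_congr (hI : IsInv lam) {n : ℕ} (hn : 0 < n) {s s' : W} (h : Std lam s (Fin n) τ)
    (h' : Std lam s' (Fin n) τ) : ∃ c : W, IsUnit c ∧ lam c * s = s' * c := by
  haveI : Nonempty (Fin n) := ⟨⟨0, hn⟩⟩
  obtain ⟨θ, u, hu, hs, hτ⟩ := h
  obtain ⟨θ', u', hu', hs', hτ'⟩ := h'
  obtain ⟨g, hg⟩ := exists_conj_of_equiv θ θ'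
  set w : Matrix (Fin n) (Fin n) W := g.val * u * lamTr lam g.val with hw_def
  have hw : IsUnit w := (g.isUnit.mul hu).mul (isUnit_lamTr g.isUnit)
  have hwτ : ∀ b, θ' (τ b) * w = w * lamTr lam (θ' b) := fun b => by
    have h2 := congrArg (lamTr lam) (hg b)
    rw [lamTr_mul, lamTr_mul] at h2
    calc θ' (τ b) * w = (θ' (τ b) * g.val) * u * lamTr lam (g : Matrix (Fin n) (Fin n) W) := by
          simp [w, mul_assoc]
      _ = g.val * (θ (τ b) * u) * lamTr lam (g : Matrix (Fin n) (Fin n) W) := by rw [hg]; simp [mul_assoc]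
      _ = g.val * u * (lamTr lam (θ b) * lamTr lam (g : Matrix (Fin n) (Fin n) W)) := by rw [hτ]; simp [mul_assoc]
      _ = w * lamTr lam (θ' b) := by rw [← h2]; simp [w, mul_assoc]
  obtain ⟨u', rfl⟩ := hu'
  obtain ⟨wu, hwu⟩ := hw
  have key : ∀ X, X * (u'⁻¹.val * w) = (u'⁻¹.val * w) * X := by
    intro X
    obtain ⟨b, hb⟩ := θ'.surjective (lamTr lam X)
    have h1 := hwτ b
    have h2 := hτ' b
    rw [hb, lamTr_lamTr hI] at h1 h2
    calc X * (u'⁻¹.val * w) = u'⁻¹.val * (u'.val * X) * u'⁻¹.val * w := by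
          rw [Units.inv_mul_cancel_left]; simp [mul_assoc]
      _ = u'⁻¹.val * (θ' (τ b) * w) := by rw [← h2]; simp [mul_assoc]
      _ = u'⁻¹.val * w * X := by rw [h1]; simp [hw_def, mul_assoc]
  obtain ⟨c, hc⟩ := eq_scalar_of_commute key
  have hwc : w = c • (u' : Matrix (Fin n) (Fin n) W) := by
    have := congrArg ((u' : Matrix (Fin n) (Fin n) W) * ·) hc
    simpa using this
  have hcu : IsUnit c := by
    have h1 : IsUnit (c • (1 : Matrix (Fin n) (Fin n) W)) := by rw [← hc, ← hwu]; exact (u'⁻¹ * wu).isUnit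
    rw [Matrix.isUnit_iff_isUnit_det, Matrix.det_smul, Matrix.det_one, mul_one, Fintype.card_fin] at h1
    exact (isUnit_pow_iff hn.ne').1 h1
  have h1 : lamTr lam w = s • w := by
    show lamTr lam (g.val * u * lamTr lam g.val) = _
    rw [lamTr_mul, lamTr_mul, lamTr_lamTr hI, hs]
    simp [w, mul_assoc]
  rw [hwc, lamTr_smul, hs', smul_smul, smul_smul] at h1
  have h2 : lam c * s' = s * c := smul_left_cancel_of_isUnit u'.isUnit h1
  obtain ⟨c, rfl⟩ := hcu
  refine ⟨(↑c⁻¹ : W), c⁻¹.isUnit, ?_⟩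
  have h3 : lam (↑c⁻¹ : W) * lam (c : W) = 1 := by rw [← map_mul, Units.inv_mul, map_one]
  calc lam (↑c⁻¹ : W) * s = lam (↑c⁻¹ : W) * (s * c) * ↑c⁻¹ := by
        rw [mul_assoc, mul_assoc s, Units.mul_inv, mul_one]
    _ = lam (↑c⁻¹ : W) * (lam (c : W) * s') * ↑c⁻¹ := by rw [h2]
    _ = s' * ↑c⁻¹ := by rw [← mul_assoc, h3, one_mul]

end Semi

end Groth.Agent.AzLoc
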