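import Groth.Agent.AzLoc.Local
import Mathlib.RingTheory.Unramified.Field
import Mathlib.RingTheory.Artinian.Ring

/-!
Facts used at every strict henselisation.
-/

set_option autoImplicit false
set_option backward.isDefEq.respectTransparency false
noncomputable section

open scoped TensorProduct

universe u v w

namespace Groth.Agent.AzLoc

variable {S : Type u} [CommRing S] {R : Type v} [CommRing R] [Algebra S R] {lam : R ≃ₐ[S] R}

theorem isInv_T (hlam : ∀ r, lam (lam r) = r) (hfix : RInv.IsFixedRing S R lam.toRingEquiv)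
    {T : Type u} [CommRing T] [Algebra S T] (hcol : MultT.IsEtColim S T) : IsInv (lamE T lam) := by
  haveI := flat hcol
  exact isInv_lamE hlam hfix

theorem IsInv.isUnit_of_map {T : Type u} [CommRing T] [IsLocalRing T] {W : Type v} [CommRing W] [Algebra T W]
    {μ : W ≃ₐ[T] W} (hI : IsInv μ) {t : T} (h : IsUnit (algebraMap T W t)) : IsUnit t := by
  by_contra hn
  haveI := hI.nontrivial
  haveI := hI.isIntegral
  have h1 : algebraMap T W t ∈ Ideal.jacobson (⊥ : Ideal W) :=
    Hensel.map_le_jacobson (IsLocalRing.maximalIdeal_le_jacobson ⊥)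
      (Ideal.mem_map_of_mem _ ((IsLocalRing.mem_maximalIdeal _).2 hn))
  obtain ⟨m, hm⟩ := Ideal.exists_maximal W
  exact hm.ne_top (Ideal.eq_top_of_isUnit_mem _ (mem_J_iff.1 h1 ⟨m, hm⟩) h)

variable {T : Type u} [CommRing T] [HenselianLocalRing T] [Algebra S T] [IsSepClosed (IsLocalRing.ResidueField T)]

/-- A quadratic étale algebra splits at every strict henselisation. -/
theorem spl_of_quad (hq : RInv.IsQuadEtale S R) (hI : IsInv (lamE T lam)) : Spl (lamE T lam) := by
  refine hI.ram_or_spl.resolve_left fun hR => ?_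
  haveI := hI.isLocalRing hR
  obtain ⟨hf, hp, hu, hr⟩ := hq
  haveI := hf
  haveI := hp
  haveI := hu
  let k := IsLocalRing.ResidueField T
  let K := k ⊗[S] R
  have hdim : Module.finrank k K = 2 := by
    have h := Module.rankAtStalk_baseChange (R := S) (M := R) (S := k) ⟨⊥, Ideal.isPrime_bot⟩
    rw [hr, Module.rankAtStalk_eq_finrank_of_free, Pi.natCast_apply, Nat.cast_id] at h
    exact h
  haveI : Nontrivial K := Module.nontrivial_of_finrank_pos (R := k) (by omega)
  let f : T ⊗[S] R →ₐ[S] K := Algebra.TensorProduct.map (IsScalarTower.toAlgHom S T k) (AlgHom.id S R)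
  have hf : Function.Surjective f := by
    intro z
    induction z using TensorProduct.induction_on with
    | zero => exact ⟨0, map_zero _⟩
    | add a b ha hb =>
      obtain ⟨a, rfl⟩ := ha
      obtain ⟨b, rfl⟩ := hb
      exact ⟨a + b, map_add _ _ _⟩
    | tmul c r =>
      obtain ⟨c, rfl⟩ := IsLocalRing.residue_surjective c
      exact ⟨c ⊗ₜ r, rfl⟩
  haveI : IsLocalRing K := IsLocalRing.of_surjective' f.toRingHom hf
  haveI : IsArtinianRing K := IsArtinianRing.of_finite k K
  haveI : Algebra.FiniteType k K := inferInstance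
  haveI : IsReduced K := Algebra.FormallyUnramified.isReduced_of_field k K
  letI : Field K := (IsArtinianRing.isField_of_isReduced_of_isLocalRing K).toField
  haveI : Algebra.IsSeparable k K := Algebra.FormallyUnramified.isSeparable k K
  have hsurj := IsSepClosed.algebraMap_surjective k K
  have h1 := LinearMap.finrank_range_of_inj (f := Algebra.linearMap k K) (algebraMap k K).injective
  rw [LinearMap.range_eq_top.2 hsurj, finrank_top, hdim, Module.finrank_self] at h1
  omega

section Matrix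

variable {A : Type w} [Ring A] [Algebra R A]

/-- Matrices over a finite module are finite. -/
theorem finite_matrix [Module.Finite R A] (m : ℕ) : Module.Finite R (Matrix (Fin m) (Fin m) A) :=
  Module.Finite.equiv (Matrix.ofLinearEquiv R : (Fin m → Fin m → A) ≃ₗ[R] Matrix (Fin m) (Fin m) A)

/-- Matrices over a finite projective module are projective. -/
theorem projective_matrix [Module.Projective R A] (m : ℕ) : Module.Projective R (Matrix (Fin m) (Fin m) A) := by
  classical
  obtain ⟨s, hs⟩ := Module.projective_def'.1 (inferInstance : Module.Projective R A)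
  refine Module.projective_def'.2 ⟨∑ i : Fin m, ∑ j : Fin m,
    (Finsupp.lmapDomain R R (Matrix.single i j : A → Matrix (Fin m) (Fin m) A)) ∘ₗ s ∘ₗ
      ((LinearMap.proj j : (Fin m → A) →ₗ[R] A) ∘ₗ (LinearMap.proj i : Matrix (Fin m) (Fin m) A →ₗ[R] Fin m → A)),
    LinearMap.ext fun M => ?_⟩
  simp only [LinearMap.comp_apply, LinearMap.sum_apply, map_sum, LinearMap.id_apply, Finsupp.lmapDomain_apply,
    Finsupp.linearCombination_mapDomain]
  conv_rhs => rw [Matrix.matrix_eq_sum_single M]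
  refine Finset.sum_congr rfl fun i _ => Finset.sum_congr rfl fun j _ => ?_
  have h := LinearMap.congr_fun hs (M i j)
  simp only [LinearMap.comp_apply, LinearMap.id_apply] at h
  show Finsupp.linearCombination R (Matrix.single i j) (s (M i j)) = Matrix.single i j (M i j)
  rw [show (Matrix.single i j : A → Matrix (Fin m) (Fin m) A) = ⇑(Matrix.singleLinearMap R i j) ∘ id from rfl,
    ← Finsupp.apply_linearCombination, h]
  rfl

end Matrix

end Groth.Agent.AzLoc

namespace Groth.Agent.AzLoc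

universe u' v' w''

variable {S : Type u'} [CommRing S] {R : Type v'} [CommRing R] [Algebra S R] {lam : R ≃ₐ[S] R}
  {A : Type w''} [Ring A] [Algebra S A] [Algebra R A] [IsScalarTower S R A]
  {T : Type u'} [CommRing T] [HenselianLocalRing T] [Algebra S T] [IsSepClosed (IsLocalRing.ResidueField T)]
  (hI : IsInv (lamE T lam)) {t : AzInv.LamInv R A lam}

include hI in
theorem std1_at_spl (hS : Spl (lamE T lam)) {n : ℕ} (hn : 0 < n) (hA : AzInv.IsAzumayaDeg R A n) :
    Std1 (lamE T lam) (Fin n) (bcInv T t) := by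
  obtain ⟨s, hs, hstd⟩ := exists_std T hI t hn hA
  exact std1_of_spl hS hs hstd

/-- An admissible sign. -/
def SignOK (n : ℕ) (s : T ⊗[S] R) : Prop :=
  (s = 1 ∧ (IsUnit (2 : T ⊗[S] R) ∨ Odd n)) ∨ (s = -1 ∧ IsUnit (2 : T ⊗[S] R))

include hI in
theorem exists_signOK (hR : Ram (lamE T lam)) {n : ℕ} (hn : 0 < n) (hA : AzInv.IsAzumayaDeg R A n)
    (hc : IsUnit (2 : T ⊗[S] R) ∨ Odd n) : ∃ s, SignOK n s ∧ Std (lamE T lam) s (Fin n) (bcInv T t) := by
  haveI := hI.isLocalRing hR
  obtain ⟨s, hs, hstd⟩ := exists_std T hI t hn hA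
  rcases hc with h2 | hodd
  · rcases std_one_or_neg hR h2 hs hstd with h | h
    · exact ⟨1, Or.inl ⟨rfl, Or.inl h2⟩, h⟩
    · exact ⟨-1, Or.inr ⟨rfl, h2⟩, h⟩
  · exact ⟨1, Or.inl ⟨rfl, Or.inr hodd⟩, std_one_of_odd hI hodd hstd⟩

end Groth.Agent.AzLoc

namespace Groth.Agent.AzLoc

universe u₁ v₁ w₁

variable {S : Type u₁} [CommRing S] {R : Type v₁} [CommRing R] [Algebra S R] {lam : R ≃ₐ[S] R}
  {A : Type w₁} [Ring A] [Algebra S A] [Algebra R A] [IsScalarTower S R A]
  (T : Type u₁) [CommRing T] [HenselianLocalRing T] [Algebra S T] [IsSepClosed (IsLocalRing.ResidueField T)]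
  (hI : IsInv (lamE T lam))

include hI in
/-- Automorphisms become inner at a strict henselisation. -/
theorem exists_inner_T {n : ℕ} (hn : 0 < n) (hA : AzInv.IsAzumayaDeg R A n) (ψ : A ≃ₐ[R] A) :
    ∃ u : (T ⊗[S] A)ˣ, ∀ x : T ⊗[S] A,
      endBC ψ.toAlgHom T x * (u : T ⊗[S] A) = (u : T ⊗[S] A) * x := by
  haveI := hI.isIntegral
  haveI := hI.finite_maximal
  obtain ⟨hAz, hr⟩ := azumaya_bc (S := S) (E := T) R A hA
  haveI := hAz
  obtain ⟨θ⟩ := exists_matrixIso T (T ⊗[S] A) hn hr
  let φ : T ⊗[S] A ≃ₐ[T] T ⊗[S] A := Algebra.TensorProduct.congr AlgEquiv.refl (ψ.restrictScalars S)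
  have hφ : ∀ x, φ x = endBC ψ.toAlgHom T x := fun x => by
    induction x using TensorProduct.induction_on with
    | zero => simp
    | add a b ha hb => simp only [map_add, ha, hb]
    | tmul e a => simp [φ]
  have hsc : ∀ w : T ⊗[S] R, φ (scal R A T w) = scal R A T w := fun w => by
    induction w using TensorProduct.induction_on with
    | zero => simp
    | add a b ha hb => simp only [map_add, ha, hb]
    | tmul e r => simp [φ]
  let φW : T ⊗[S] A ≃ₐ[T ⊗[S] R] T ⊗[S] A := { φ with commutes' := hsc }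
  obtain ⟨g, hg⟩ := exists_conj ((θ.symm.trans φW).trans θ)
  refine ⟨Units.map θ.symm.toAlgHom.toRingHom.toMonoidHom g, fun x => ?_⟩
  apply θ.injective
  have h := hg (θ x)
  simp only [AlgEquiv.trans_apply, AlgEquiv.symm_apply_apply] at h
  rw [map_mul, map_mul, ← hφ, show θ (↑(Units.map θ.symm.toAlgHom.toRingHom.toMonoidHom g)) =
    (g : Matrix (Fin n) (Fin n) (T ⊗[S] R)) from θ.apply_symm_apply _]
  exact h

include hI in
/-- Automorphisms commuting with an involution become conjugation by unitary elements. -/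
theorem exists_unitary_T (hsq : ∀ t : Tˣ, ∃ y : T, y * y = t) {n : ℕ} (hn : 0 < n)
    (hA : AzInv.IsAzumayaDeg R A n) (t : AzInv.LamInv R A lam) (ψ : A ≃ₐ[R] A) (hψ : AzInv.IsInvHom t t ψ) :
    InnerAt ψ.toAlgHom (some (t.linS S lam)) T := by
  obtain ⟨u, hu⟩ := exists_inner_T T hI hn hA ψ
  haveI := hI.isIntegral
  haveI := hI.finite_maximal
  haveI := hI.nontrivial
  obtain ⟨hAz, hr⟩ := azumaya_bc (S := S) (E := T) R A hA
  haveI := hAz
  obtain ⟨θ⟩ := exists_matrixIso T (T ⊗[S] A) hn hr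
  have hcomm : ∀ x, t.bc S lam T (endBC ψ.toAlgHom T x) = endBC ψ.toAlgHom T (t.bc S lam T x) := fun x => by
    induction x using TensorProduct.induction_on with
    | zero => simp
    | add a b ha hb => simp only [map_add, ha, hb]
    | tmul e a => simp [hψ a]
  set c : T ⊗[S] A := t.bc S lam T ↑u * ↑u with hc_def
  have hcx : ∀ x, x * c = c * x := by
    intro x
    obtain ⟨y, rfl⟩ : ∃ y, t.bc S lam T y = x := ⟨t.bc S lam T x, bc_bc t x⟩
    have h1 := congrArg (t.bc S lam T) (hu y)
    rw [bc_mul, bc_mul, hcomm] at h1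
    rw [hc_def, ← mul_assoc, ← h1, mul_assoc, hu, ← mul_assoc]
  have hcu : IsUnit c := by
    refine IsUnit.mul ?_ u.isUnit
    refine isUnit_iff_exists_and_exists.2 ⟨⟨t.bc S lam T (↑u⁻¹ : T ⊗[S] A), ?_⟩, ⟨t.bc S lam T (↑u⁻¹ : T ⊗[S] A), ?_⟩⟩
    · rw [← bc_mul, Units.inv_mul]; simp [Algebra.TensorProduct.one_def]
    · rw [← bc_mul, Units.mul_inv]; simp [Algebra.TensorProduct.one_def]
  obtain ⟨c₀, hc₀⟩ := eq_scalar_of_commute (M := θ c) fun X => by
    obtain ⟨x, rfl⟩ := θ.surjective X
    rw [← map_mul, ← map_mul, hcx]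
  have hc' : c = c₀ • (1 : T ⊗[S] A) := θ.injective (by rw [hc₀, map_smul, map_one])
  haveI : Nonempty (Fin n) := ⟨⟨0, hn⟩⟩
  have hfix : lamE T lam c₀ = c₀ := by
    have h1 : t.bc S lam T c = c := by rw [hc_def, bc_mul, bc_bc]
    rw [hc', bc_smul_def, bc_scal, ← bc_smul_def, ← bc_smul_def, ← bcInv_apply, AzInv.LamInv.map_one] at h1
    have h2 := congrArg θ h1
    simp only [map_smul, map_one] at h2
    exact smul_left_cancel_of_isUnit isUnit_one h2
  obtain ⟨τ₀, hτ₀⟩ := hI.fixed _ hfix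
  have hτu : IsUnit τ₀ := hI.isUnit_of_map (by
    have h1 := hcu.map θ
    rw [hc₀, Matrix.isUnit_iff_isUnit_det, Matrix.det_smul, Matrix.det_one, mul_one, Fintype.card_fin] at h1
    rw [hτ₀]
    exact (isUnit_pow_iff hn.ne').1 h1)
  obtain ⟨y, hy⟩ := hsq hτu.unit
  have hyu : IsUnit y := isUnit_of_mul_isUnit_left (x := y) (y := y) (by rw [hy]; exact hτu)
  obtain ⟨z, hz⟩ := hyu.exists_left_inv
  refine ⟨(IsUnit.mul ((IsUnit.of_mul_eq_one (b := y) hz).map (algebraMap T (T ⊗[S] A))) u.isUnit).unit,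
    fun x => ?_, fun q hq => ?_⟩
  · rw [IsUnit.unit_spec, ← Algebra.smul_def, mul_smul_comm, smul_mul_assoc]
    exact congrArg (z • ·) (hu x)
  · rw [Option.mem_def, Option.some.injEq] at hq
    subst hq
    rw [IsUnit.unit_spec, ← Algebra.smul_def]
    show t.bc S lam T (z • (u : T ⊗[S] A)) * _ = 1
    rw [map_smul, smul_mul_assoc, mul_smul_comm, smul_smul, ← hc_def, hc', ← hτ₀, algebraMap_smul, smul_smul,
      show z * z * τ₀ = 1 by
        have h3 : y * y = τ₀ := hy
        rw [← h3]; linear_combination (z * y + 1) * hz, one_smul]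

end Groth.Agent.AzLoc
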